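import Cfsg.Agent.H88.EqO1
import Cfsg.Agent.S4025
import Cfsg.Agent.S4020
import Cfsg.Agent.S0201
import Cfsg.Agent.CIT.S4021AB
import Cfsg.Agent.CIT.S4021C
import Cfsg.Agent.H68.S4021D
import Cfsg.Agent.BS.SPE
import Cfsg.Agent.BS.List
import Cfsg.Agent.SigO.Cores
import Cfsg.Agent.H81.SL2Card
import Cfsg.Agent.H88.EqOK
import Cfsg.Agent.CIT.S4021G
import Cfsg.Agent.CIT.S4021I
import Cfsg.Agent.H10.S4021HJ
import Cfsg.Agent.H68.S4021F
import Cfsg.Prelude.Def_CaseTheorems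

/-! Groups in which subgroups of equal order are conjugate: assembly. -/

set_option autoImplicit false

namespace Cfsg.Agent.H88.EqO

open Cfsg Subgroup

universe u


/-- Bender's theorem for `H` -/
def Bend (H : Type u) [Group H] [Finite H] : Prop :=
  ∀ (X : Subgroup H), Cfsg.IsStronglyPEmbedded 2 X → (∀ t : H, orderOf t = 2 → Cfsg.pPrimeCore 2 H ⊔ Subgroup.centralizer ({t} : Set H) = ⊤ ∧ ∀ u ∈ Subgroup.centralizer ({t} : Set H), orderOf u = 2 → u = t) ∨ (∃ (F : Type) (_ : Field F) (_ : Fintype F), CharP F 2 ∧ 4 ≤ Fintype.card F ∧ Nonempty (↥(Cfsg.pElementClosure 2 (⊤ : Subgroup (H ⧸ Cfsg.pPrimeCore 2 H))) ≃* Matrix.SpecialLinearGroup (Fin 2) F)) ∨ (∃ (F : Type) (_ : Field F) (_ : Fintype F) (q : ℕ), Even q ∧ 4 ≤ q ∧ Fintype.card F = q ^ 2 ∧ Nonempty (↥(Cfsg.pElementClosure 2 (⊤ : Subgroup (H ⧸ Cfsg.pPrimeCore 2 H))) ≃* Cfsg.PSU 3 F q)) ∨ Cfsg.Lie.IsoSuzuki ↥(Cfsg.pElementClosure 2 (⊤ : Subgroup (H ⧸ Cfsg.pPrimeCore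 2 H)))

/-- the outcome for elementary abelian Sylow 2-subgroups of order `2 ^ n` -/
def EL (n : ℕ) (Q : Type*) [Group Q] : Prop :=
  (n = 2 ∧ (Nonempty (Q ≃* alternatingGroup (Fin 4)) ∨ Nonempty (Q ≃* alternatingGroup (Fin 5)))) ∨
    (3 ≤ n ∧ (Nonempty (Q ≃* Cfsg.affineGroup (GaloisField 2 3)) ∨
    Nonempty (Q ≃* Cfsg.semiaffineGroup (GaloisField 2 3)) ∨
    Nonempty (Q ≃* Cfsg.semiaffineGroup (GaloisField 2 5)) ∨
    Nonempty (Q ≃* Matrix.ProjectiveSpecialLinearGroup (Fin 2) (GaloisField 2 3)) ∨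
    Nonempty (Q ≃* MulAut (Matrix.ProjectiveSpecialLinearGroup (Fin 2) (GaloisField 2 5)))))

theorem EL.congr {n : ℕ} {Q Q' : Type*} [Group Q] [Group Q'] (e : Q ≃* Q') (h : EL n Q') : EL n Q := by
  have key : ∀ {X : Type} [Group X], Nonempty (Q' ≃* X) → Nonempty (Q ≃* X) := fun h => h.map (fun f => e.trans f)
  rcases h with ⟨h1, h2⟩ | ⟨h1, h2⟩
  · refine Or.inl ⟨h1, ?_⟩
    rcases h2 with h | h
    · exact Or.inl (key h)
    · exact Or.inr (key h)
  · refine Or.inr ⟨h1, ?_⟩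
    rcases h2 with h | h | h | h | h
    · exact (Or.inl (key h))
    · exact (Or.inr (Or.inl (key h)))
    · exact (Or.inr (Or.inr (Or.inl (key h))))
    · exact (Or.inr (Or.inr (Or.inr (Or.inl (key h)))))
    · exact (Or.inr (Or.inr (Or.inr (Or.inr (key h)))))

variable {G : Type u} [Group G] [Finite G]

theorem CP.conj_elem (hC : CP G) {x y : G} (hx : orderOf x = 2) (hy : orderOf y = 2) : ∃ g : G, y = g * x * g⁻¹ := by
  obtain ⟨g, hg⟩ := hC (zpowers x) (zpowers y) (by rw [Nat.card_zpowers, Nat.card_zpowers, hx, hy])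
  refine ⟨g, ?_⟩
  have h1 : y ∈ (zpowers x).map (MulAut.conj g).toMonoidHom := by
    rw [← hg]; exact mem_zpowers y
  rw [MonoidHom.map_zpowers] at h1
  have h2 : orderOf (g * x * g⁻¹) = 2 := by
    rw [← hx]
    exact (MulAut.conj g).orderOf_eq x
  have h3 : (MulAut.conj g).toMonoidHom x = g * x * g⁻¹ := rfl
  rw [h3] at h1
  obtain ⟨k, hk⟩ := mem_zpowers_iff.1 h1
  rcases Int.even_or_odd k with hk2 | hk2
  · obtain ⟨j, rfl⟩ := hk2
    exfalso
    have : y = 1 := by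
      rw [← hk, ← two_mul, zpow_mul]
      have : (g * x * g⁻¹) ^ (2 : ℤ) = 1 := by
        have := pow_orderOf_eq_one (g * x * g⁻¹)
        rw [h2] at this
        exact_mod_cast this
      rw [this, one_zpow]
    rw [this, orderOf_one] at hy
    omega
  · obtain ⟨j, rfl⟩ := hk2
    rw [← hk, zpow_add, zpow_mul, zpow_one]
    have : (g * x * g⁻¹) ^ (2 : ℤ) = 1 := by
      have := pow_orderOf_eq_one (g * x * g⁻¹)
      rw [h2] at this
      exact_mod_cast this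
    rw [this, one_zpow, one_mul]

theorem CP.forP (hC : CP G) (p : ℕ) : ∀ H K : Subgroup G, IsPGroup p H → IsPGroup p K → Nat.card H = Nat.card K →
      ∃ g : G, K = H.map (MulAut.conj g).toMonoidHom := fun H K _ _ h => hC H K h

/-- the normal case -/
theorem normal_case (hC : CP G) (hO : pPrimeCore 2 G = ⊥) (S : Sylow 2 G)
    (hel : IsElementaryAbelian 2 (S : Subgroup G)) (n : ℕ) (hn : 2 ≤ n) (hcard : Nat.card (S : Subgroup G) = 2 ^ n)
    (hN : (S : Subgroup G).Normal) : EL n G := by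
  have : Fact (Nat.Prime 2) := ⟨Nat.prime_two⟩
  have hNt : (⊤ : Subgroup G) = normalizer ((S : Subgroup G) : Set G) := (Subgroup.normalizer_eq_top_iff.2 hN).symm
  rcases Nat.lt_or_ge n 3 with h3 | h3
  · -- n = 2
    obtain rfl : n = 2 := by omega
    left
    refine ⟨rfl, Or.inl ?_⟩
    have hsolT : Group.IsSolvable (⊤ : Subgroup G) := solvK' S ⊤ hNt
    have hsol : Group.IsSolvable G := solvable_of_surjective (f := (⊤ : Subgroup G).subtype) (fun x => ⟨⟨x, mem_top x⟩, rfl⟩)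
    have hScore : (S : Subgroup G) = pCore 2 G := le_antisymm (Solv.le_pCore hN S.2) (Solv.pCore_le_sylow S)
    refine CIT.S4021C.C (S : Subgroup G) hcard hel.2 ?_ ?_ ?_
    · rw [hScore]
      exact SigO.centralizer_pCore_le hO
    · rw [Nat.odd_iff, ← Nat.two_dvd_ne_zero]
      exact S.not_dvd_index
    · intro x hx y hy hx1 hy1
      exact hC.conj_elem (orderOf_eq_prime (hel.2 x hx) hx1) (orderOf_eq_prime (hel.2 y hy) hy1)
  · have hcore : pPrimeCore 2 (⊤ : Subgroup G) = ⊥ := by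
      have h1 := Solv.map_pPrimeCore 2 (Subgroup.topEquiv (G := G)).symm
      rw [hO, Subgroup.map_bot] at h1
      exact h1.symm
    have e : G ≃* (⊤ : Subgroup G) ⧸ pPrimeCore 2 (⊤ : Subgroup G) :=
      (Subgroup.topEquiv (G := G)).symm.trans
        ((QuotientGroup.quotientBot.symm).trans (QuotientGroup.quotientMulEquivOfEq hcore.symm))
    rcases S4025.result (hC.forP 2) S n h3 hel hcard ⊤ hNt (solvK S ⊤ hNt) with ⟨-, -, h⟩ | ⟨-, -, ⟨f⟩⟩
    · rcases h rfl with h | h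
      · exact Or.inr ⟨h3, (Or.inr (Or.inl (h.map e.trans)))⟩
      · exact Or.inr ⟨h3, (Or.inl (h.map e.trans))⟩
    · exact Or.inr ⟨h3, (Or.inr (Or.inr (Or.inl ⟨e.trans f⟩)))⟩

/-- the simple case: `Q` has trivial odd core and its 2-elements generate `SL₂(F)` -/
theorem sl2_case {Q : Type u} [Group Q] [Finite Q] (hC : CP Q) (hO : pPrimeCore 2 Q = ⊥) (S : Sylow 2 Q)
    (hel : IsElementaryAbelian 2 (S : Subgroup Q)) (n : ℕ) (hn : 2 ≤ n) (hcard : Nat.card (S : Subgroup Q) = 2 ^ n)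
    {F : Type} [Field F] [Fintype F] [CharP F 2]
    (e : ↥(Cfsg.pElementClosure 2 (⊤ : Subgroup Q)) ≃* Matrix.SpecialLinearGroup (Fin 2) F) : EL n Q := by
  have : Fact (Nat.Prime 2) := ⟨Nat.prime_two⟩
  obtain ⟨hLn, hLo, hLC⟩ := H68.S4021F.L hO e
  set L := Cfsg.pElementClosure 2 (⊤ : Subgroup Q) with hL
  obtain ⟨m, hm, hFm⟩ := FiniteField.card F 2
  have hcSL : Nat.card L = (Fintype.card F) * ((Fintype.card F - 1) * (Fintype.card F + 1)) := by
    rw [Nat.card_congr e.toEquiv]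
    exact H81.card_sl2
  have hmn : (m : ℕ) = n := by
    have h1 : 2 ^ n * (S : Subgroup Q).index = 2 ^ (m : ℕ) * (((2 ^ (m : ℕ) - 1) * (2 ^ (m : ℕ) + 1)) * L.index) := by
      rw [← hcard, Subgroup.card_mul_index, ← Subgroup.card_mul_index L, hcSL, hFm]
      ring
    have ho1 : Odd (S : Subgroup Q).index := by
      rw [Nat.odd_iff, ← Nat.two_dvd_ne_zero]
      exact S.not_dvd_index
    have hme : Even (2 ^ (m : ℕ)) := (Nat.even_pow.2 ⟨even_two, m.ne_zero⟩)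
    have hpos : 1 ≤ 2 ^ (m : ℕ) := Nat.one_le_two_pow
    have ho2 : Odd (((2 ^ (m : ℕ) - 1) * (2 ^ (m : ℕ) + 1)) * L.index) := by
      refine Odd.mul (Odd.mul ?_ hme.add_one) hLo
      rw [Nat.odd_sub hpos]
      exact ⟨fun h => absurd hme (Nat.not_even_iff_odd.2 h), fun h => absurd h (by decide)⟩
    have key : ∀ a b c d : ℕ, Odd d → 2 ^ a * c = 2 ^ b * d → a ≤ b := by
      intro a b c d hd h
      have h2 : 2 ^ a ∣ 2 ^ b * d := ⟨c, h.symm⟩
      have h3 : Nat.Coprime (2 ^ a) d := Nat.Coprime.pow_left _ ((Nat.coprime_two_left).2 hd)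
      have h4 := h3.dvd_of_dvd_mul_right h2
      exact (Nat.pow_dvd_pow_iff_le_right (by norm_num)).1 h4
    exact le_antisymm (key _ _ _ _ ho1 h1.symm) (key _ _ _ _ ho2 h1)
  have hF : Fintype.card F = 2 ^ n := by rw [hFm, hmn]
  obtain ⟨hd, hfull⟩ := H68.S4021D.D L hLC n hn hF e
  obtain ⟨f⟩ := BS.sl2_equiv_psl2 F
  obtain ⟨⟨j1⟩, ⟨j2⟩⟩ := H10.S4021HJ.J (F := F) n (by omega) hF
  have htop : L.index = 1 → Nonempty (Q ≃* Matrix.SpecialLinearGroup (Fin 2) F) := by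
    intro h1
    rw [Subgroup.index_eq_one] at h1
    have e1 : Q ≃* (⊤ : Subgroup Q) := (Subgroup.topEquiv (G := Q)).symm
    exact ⟨e1.trans ((MulEquiv.subgroupCongr h1.symm).trans e)⟩
  rcases Nat.lt_or_ge n 3 with h3 | h3
  · obtain rfl : n = 2 := by omega
    left
    refine ⟨rfl, Or.inr ?_⟩
    have hi : L.index = 1 := by
      rcases (Nat.dvd_prime Nat.prime_two).1 hd with h | h
      · exact h
      · rw [h] at hLo
        exact absurd hLo (by decide)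
    obtain ⟨a⟩ := htop hi
    obtain ⟨b⟩ := CIT.S4021I.sl2_four (F := F) (by rw [hF]; norm_num)
    exact ⟨a.trans b⟩
  rcases S4025.result (hC.forP 2) S n h3 hel hcard _ rfl (solvK S _ rfl) with ⟨h3n, -, -⟩ | ⟨h5n, -, ⟨g⟩⟩
  · subst h3n
    rcases (Nat.dvd_prime Nat.prime_three).1 hd with h | h
    · obtain ⟨a⟩ := htop h
      exact Or.inr ⟨h3, (Or.inr (Or.inr (Or.inr (Or.inl ⟨(a.trans f).trans j1⟩))))⟩
    · exfalso
      obtain ⟨x, hxL, hx⟩ := H68.S4021D.E L hLC (by rw [hF]) e h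
      have h3L : 3 ∣ Nat.card L := by
        rw [hcSL, hF]; norm_num
      have : Fact (Nat.Prime 3) := ⟨Nat.prime_three⟩
      obtain ⟨y, hy⟩ := exists_prime_orderOf_dvd_card' 3 h3L
      obtain ⟨c, hc⟩ := hC (zpowers (y : Q)) (zpowers x) (by
        rw [Nat.card_zpowers, Nat.card_zpowers, hx, Subgroup.orderOf_coe, hy])
      apply hxL
      have h1 : x ∈ (zpowers (y : Q)).map (MulAut.conj c).toMonoidHom := by
        rw [← hc]; exact mem_zpowers x
      obtain ⟨w, hw, hwx⟩ := h1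
      rw [← hwx]
      refine hLn.conj_mem w ?_ c
      exact (zpowers_le.2 y.2) hw
  · subst h5n
    rcases (Nat.dvd_prime Nat.prime_five).1 hd with h | h
    · exfalso
      obtain ⟨σ, hσ⟩ := H10.S4021HJ.H
      have h5 : 5 ∣ Nat.card (↥(normalizer ((S : Subgroup Q) : Set Q)) ⧸ pPrimeCore 2 ↥(normalizer ((S : Subgroup Q) : Set Q))) := by
        have h0 := orderOf_dvd_natCard σ
        rw [hσ] at h0
        rw [Nat.card_congr g.toEquiv]
        exact h0
      have h6 : 5 ∣ Nat.card Q :=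
        (h5.trans (Subgroup.card_quotient_dvd_card _)).trans (Subgroup.card_subgroup_dvd_card _)
      rw [← Subgroup.card_mul_index L, h, mul_one, hcSL, hF] at h6
      norm_num at h6
    · obtain ⟨a⟩ := hfull h
      exact Or.inr ⟨h3, (Or.inr (Or.inr (Or.inr (Or.inr ⟨a.trans j2⟩))))⟩

theorem elem_case (hB : Bend G) (hC : CP G) (hO : pPrimeCore 2 G = ⊥) (S : Sylow 2 G)
    (hel : IsElementaryAbelian 2 (S : Subgroup G)) (n : ℕ) (hn : 2 ≤ n) (hcard : Nat.card (S : Subgroup G) = 2 ^ n) :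
    EL n G := by
  have : Fact (Nat.Prime 2) := ⟨Nat.prime_two⟩
  have h4 : 4 ≤ 2 ^ n := by
    calc 4 = 2 ^ 2 := by norm_num
      _ ≤ 2 ^ n := Nat.pow_le_pow_right (by norm_num) hn
  have hSne : (S : Subgroup G) ≠ ⊥ := by
    intro h
    rw [h, Subgroup.card_bot] at hcard
    omega
  rcases hC.se S hel.2 hSne with hN | hse
  · exact normal_case hC hO S hel n hn hcard hN
  have hspe := BS.strongly_iff.1 hse
  let e : G ≃* G ⧸ pPrimeCore 2 G :=
    (QuotientGroup.quotientBot.symm).trans (QuotientGroup.quotientMulEquivOfEq hO.symm)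
  have hCQ : CP (G ⧸ pPrimeCore 2 G) := hC.quot _
  have hOQ : pPrimeCore 2 (G ⧸ pPrimeCore 2 G) = ⊥ := Solv.pPrimeCore_quotient_pPrimeCore 2
  let T : Sylow 2 (G ⧸ pPrimeCore 2 G) := S.mapSurjective (QuotientGroup.mk'_surjective _)
  have hT : (T : Subgroup (G ⧸ pPrimeCore 2 G)) = (S : Subgroup G).map (QuotientGroup.mk' (pPrimeCore 2 G)) := rfl
  have hinj : Function.Injective (QuotientGroup.mk' (pPrimeCore 2 G)) := by
    rw [← MonoidHom.ker_eq_bot_iff, QuotientGroup.ker_mk', hO]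
  have hTc : Nat.card (T : Subgroup (G ⧸ pPrimeCore 2 G)) = 2 ^ n := by
    rw [hT, Subgroup.card_map_of_injective hinj, hcard]
  have hScomm : ∀ a ∈ (S : Subgroup G), ∀ b ∈ (S : Subgroup G), a * b = b * a := by
    intro a ha b hb
    have := hel.1.is_comm.comm ⟨a, ha⟩ ⟨b, hb⟩
    exact congrArg Subtype.val this
  have hTcomm : ∀ a ∈ (T : Subgroup (G ⧸ pPrimeCore 2 G)), ∀ b ∈ (T : Subgroup (G ⧸ pPrimeCore 2 G)), a * b = b * a := by
    rintro _ ⟨a, ha, rfl⟩ _ ⟨b, hb, rfl⟩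
    rw [← map_mul, ← map_mul, hScomm a ha b hb]
  have hTel : IsElementaryAbelian 2 (T : Subgroup (G ⧸ pPrimeCore 2 G)) := by
    refine ⟨⟨⟨fun a b => Subtype.ext (hTcomm a a.2 b b.2)⟩⟩, ?_⟩
    rintro _ ⟨a, ha, rfl⟩
    rw [← map_pow, hel.2 a ha, map_one]
  have h2comm : ∀ P : Sylow 2 ↥(Cfsg.pElementClosure 2 (⊤ : Subgroup (G ⧸ pPrimeCore 2 G))),
      ∀ a ∈ (P : Subgroup ↥(Cfsg.pElementClosure 2 (⊤ : Subgroup (G ⧸ pPrimeCore 2 G)))),
      ∀ b ∈ (P : Subgroup ↥(Cfsg.pElementClosure 2 (⊤ : Subgroup (G ⧸ pPrimeCore 2 G)))), a * b = b * a := by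
    intro P a ha b hb
    have hP : IsPGroup 2 ((P : Subgroup ↥(Cfsg.pElementClosure 2 (⊤ : Subgroup (G ⧸ pPrimeCore 2 G)))).map (Cfsg.pElementClosure 2 (⊤ : Subgroup (G ⧸ pPrimeCore 2 G))).subtype) :=
      P.2.map _
    obtain ⟨P', hP'⟩ := hP.exists_le_sylow
    have f : P' ≃* T := P'.equiv T
    have ha' := hP' ⟨a, ha, rfl⟩
    have hb' := hP' ⟨b, hb, rfl⟩
    have h1 : (⟨_, ha'⟩ : P') * ⟨_, hb'⟩ = ⟨_, hb'⟩ * ⟨_, ha'⟩ := by
      apply f.injective
      rw [map_mul, map_mul]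
      exact Subtype.ext (hTcomm _ (f _).2 _ (f _).2)
    have h2 := congrArg Subtype.val h1
    exact Subtype.ext h2
  rcases hB _ hspe with h | ⟨F, i1, i2, hch, hF4, ⟨e'⟩⟩ | h | h
  · exfalso
    obtain ⟨⟨t, ht⟩, ht1⟩ := Subgroup.ne_bot_iff_exists_ne_one.1 hSne
    have ht1' : t ≠ 1 := fun h => ht1 (Subtype.ext h)
    have hto := orderOf_eq_prime (hel.2 t ht) ht1'
    have hle : ¬ (S : Subgroup G) ≤ zpowers t := by
      intro hle
      have h1 := Subgroup.card_le_of_le hle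
      rw [Nat.card_zpowers, hto, hcard] at h1
      omega
    obtain ⟨u, hu, hut⟩ := SetLike.not_le_iff_exists.1 hle
    have hu1 : u ≠ 1 := fun h => hut (h ▸ one_mem _)
    have := (h t hto).2 u (mem_centralizer_singleton_iff.2 (hScomm u hu t ht)) (orderOf_eq_prime (hel.2 u hu) hu1)
    exact hut (this ▸ mem_zpowers t)
  · exact (sl2_case hCQ hOQ T hTel n hn hTc e').congr e
  · exfalso
    obtain ⟨P⟩ : Nonempty (Sylow 2 ↥(Cfsg.pElementClosure 2 (⊤ : Subgroup (G ⧸ pPrimeCore 2 G)))) := inferInstance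
    exact CIT.S4021G.not_abelian P (h2comm P) (Or.inr h)
  · exfalso
    obtain ⟨P⟩ : Nonempty (Sylow 2 ↥(Cfsg.pElementClosure 2 (⊤ : Subgroup (G ⧸ pPrimeCore 2 G)))) := inferInstance
    exact CIT.S4021G.not_abelian P (h2comm P) (Or.inl h)

theorem q8_case (hB : ∀ (H : Type u) [Group H] [Finite H], Bend H) (hC : CP G) (hO : pPrimeCore 2 G = ⊥) (S : Sylow 2 G)
    (eS : (S : Subgroup G) ≃* QuaternionGroup 2) :
    Nonempty (G ≃* Matrix.SpecialLinearGroup (Fin 2) (ZMod 3)) ∨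
      Nonempty (G ≃* Matrix.SpecialLinearGroup (Fin 2) (ZMod 5)) := by
  have : Fact (Nat.Prime 2) := ⟨Nat.prime_two⟩
  have hcen : Nat.card (center G) = 2 := by
    refine S0201.result S 0 eS ?_
    intro N hN hodd
    rw [eq_bot_iff, ← hO]
    exact Solv.le_pPrimeCore hN ((Nat.coprime_two_right).2 hodd)
  obtain ⟨⟨z, hzc⟩, hz2'⟩ := exists_prime_orderOf_dvd_card' (G := center G) 2 (by rw [hcen])
  have hz2 : orderOf z = 2 := by rw [← hz2', Subgroup.orderOf_mk]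
  have hz : ∀ g : G, g * z = z * g := fun g => mem_center_iff.1 hzc g
  have hu : ∀ u : G, orderOf u = 2 → u = z := by
    intro u hu
    obtain ⟨g, hg⟩ := hC.conj_elem hz2 hu
    rw [hg, hz g, mul_inv_cancel_right]
  have hnZ : (zpowers z).Normal := by
    refine ⟨?_⟩
    rintro _ ⟨k, rfl⟩ g
    refine ⟨k, ?_⟩
    have : Commute g (z ^ k) := (show Commute g z from hz g).zpow_right k
    show z ^ k = g * z ^ k * g⁻¹
    rw [this.eq, mul_inv_cancel_right]
  have hCQ : CP (G ⧸ zpowers z) := hC.quot _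
  have hOQ : pPrimeCore 2 (G ⧸ zpowers z) = ⊥ := H68.S4021F.F z hz hz2 _ rfl hO
  let T : Sylow 2 (G ⧸ zpowers z) := S.mapSurjective (QuotientGroup.mk'_surjective _)
  have hcS : Nat.card (S : Subgroup G) = 2 ^ 3 := by
    rw [Nat.card_congr eS.toEquiv, Nat.card_eq_fintype_card, QuaternionGroup.card]
    norm_num
  have hsq : ∀ t ∈ (T : Subgroup (G ⧸ zpowers z)), t ^ 2 = 1 := by
    rintro _ ⟨s, hs, rfl⟩
    rw [← map_pow]
    have h4 : s ^ 4 = 1 := by
      have h5 : ∀ x : QuaternionGroup 2, x ^ 4 = 1 := by decide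
      have h6 : (⟨s, hs⟩ : (S : Subgroup G)) ^ 4 = 1 := by
        apply eS.injective
        rw [map_pow, h5, map_one]
      exact congrArg Subtype.val h6
    have h5 : s ^ 2 ∈ zpowers z := by
      by_cases h6 : s ^ 2 = 1
      · rw [h6]; exact one_mem _
      · have h7 : orderOf (s ^ 2) = 2 := orderOf_eq_prime (by rw [← pow_mul]; exact h4) h6
        rw [hu _ h7]
        exact mem_zpowers z
    exact (QuotientGroup.eq_one_iff _).2 h5
  have hTcomm : ∀ a ∈ (T : Subgroup (G ⧸ zpowers z)), ∀ b ∈ (T : Subgroup (G ⧸ zpowers z)), a * b = b * a := by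
    intro a ha b hb
    have hinv : ∀ x ∈ (T : Subgroup (G ⧸ zpowers z)), x⁻¹ = x := by
      intro x hx
      rw [inv_eq_iff_mul_eq_one, ← pow_two, hsq x hx]
    rw [← hinv _ (mul_mem ha hb), mul_inv_rev, hinv a ha, hinv b hb]
  have hel : IsElementaryAbelian 2 (T : Subgroup (G ⧸ zpowers z)) :=
    ⟨⟨⟨fun a b => Subtype.ext (hTcomm a a.2 b b.2)⟩⟩, hsq⟩
  have hcT : Nat.card (T : Subgroup (G ⧸ zpowers z)) = 2 ^ 2 := by
    obtain ⟨k, hk⟩ := IsPGroup.iff_card.1 T.2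
    have h1 : 2 ^ 3 * (S : Subgroup G).index = 2 ^ (k + 1) * (T : Subgroup (G ⧸ zpowers z)).index := by
      have h2 : Nat.card G = Nat.card (G ⧸ zpowers z) * 2 := by
        rw [Subgroup.card_eq_card_quotient_mul_card_subgroup (zpowers z), Nat.card_zpowers, hz2]
      rw [← hcS, Subgroup.card_mul_index, h2, ← Subgroup.card_mul_index (T : Subgroup (G ⧸ zpowers z)), hk]
      ring
    have ho1 : Odd (S : Subgroup G).index := by
      rw [Nat.odd_iff, ← Nat.two_dvd_ne_zero]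
      exact S.not_dvd_index
    have ho2 : Odd (T : Subgroup (G ⧸ zpowers z)).index := by
      rw [Nat.odd_iff, ← Nat.two_dvd_ne_zero]
      exact T.not_dvd_index
    have key : ∀ a b c d : ℕ, Odd d → 2 ^ a * c = 2 ^ b * d → a ≤ b := by
      intro a b c d hd h
      have h2 : 2 ^ a ∣ 2 ^ b * d := ⟨c, h.symm⟩
      have h3 : Nat.Coprime (2 ^ a) d := Nat.Coprime.pow_left _ ((Nat.coprime_two_left).2 hd)
      have h4 := h3.dvd_of_dvd_mul_right h2
      exact (Nat.pow_dvd_pow_iff_le_right (by norm_num)).1 h4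
    have h5 := key _ _ _ _ ho2 h1
    have h6 := key _ _ _ _ ho1 h1.symm
    have h7 : k = 2 := by omega
    rw [hk, h7]
  rcases elem_case (hB _) hCQ hOQ T hel 2 le_rfl hcT with ⟨-, ⟨⟨f⟩⟩ | ⟨⟨f⟩⟩⟩ | ⟨h, -⟩
  · exact Or.inl (CIT.S4021AB.A z hz2 hu _ rfl f)
  · exact Or.inr (CIT.S4021AB.B z hz2 hu _ rfl f)
  · omega

theorem main (hB : ∀ (H : Type u) [Group H] [Finite H], Bend H) (hC : CP G) (hO : pPrimeCore 2 G = ⊥) :
    (IsCyclic G ∧ IsPGroup 2 G) ∨
    Nonempty (G ≃* Cfsg.affineGroup (GaloisField 2 3)) ∨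
    Nonempty (G ≃* Cfsg.semiaffineGroup (GaloisField 2 3)) ∨
    Nonempty (G ≃* Cfsg.semiaffineGroup (GaloisField 2 5)) ∨
    Nonempty (G ≃* Matrix.ProjectiveSpecialLinearGroup (Fin 2) (GaloisField 2 3)) ∨
    Nonempty (G ≃* MulAut (Matrix.ProjectiveSpecialLinearGroup (Fin 2) (GaloisField 2 5))) ∨
    Nonempty (G ≃* alternatingGroup (Fin 4)) ∨
    Nonempty (G ≃* alternatingGroup (Fin 5)) ∨
    Nonempty (G ≃* Matrix.SpecialLinearGroup (Fin 2) (ZMod 3)) ∨
    Nonempty (G ≃* Matrix.SpecialLinearGroup (Fin 2) (ZMod 5)) := by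
  have : Fact (Nat.Prime 2) := ⟨Nat.prime_two⟩
  obtain ⟨S⟩ : Nonempty (Sylow 2 G) := inferInstance
  rcases S4020.result (fun p _ => hC.forP p) S with hcyc | hel | ⟨⟨eS⟩⟩
  · exact Or.inl (cycM S hcyc hO)
  · obtain ⟨n, hn⟩ := IsPGroup.iff_card.1 S.2
    rcases Nat.lt_or_ge n 2 with h | h
    · left
      apply cycM S ?_ hO
      interval_cases n
      · rw [pow_zero] at hn
        have : Subsingleton (S : Subgroup G) := (Nat.card_eq_one_iff_unique.1 hn).1
        infer_instance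
      · rw [pow_one] at hn
        exact isCyclic_of_prime_card hn
    · rcases elem_case (hB _) hC hO S hel n h hn with ⟨-, h1 | h1⟩ | ⟨-, h1⟩
      · exact Or.inr (Or.inr (Or.inr (Or.inr (Or.inr (Or.inr (Or.inl h1))))))
      · exact Or.inr (Or.inr (Or.inr (Or.inr (Or.inr (Or.inr (Or.inr (Or.inl h1)))))))
      · rcases h1 with h1 | h1 | h1 | h1 | h1
        · exact Or.inr (Or.inl h1)
        · exact Or.inr (Or.inr (Or.inl h1))
        · exact Or.inr (Or.inr (Or.inr (Or.inl h1)))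
        · exact Or.inr (Or.inr (Or.inr (Or.inr (Or.inl h1))))
        · exact Or.inr (Or.inr (Or.inr (Or.inr (Or.inr (Or.inl h1)))))
  · rcases q8_case hB hC hO S eS with h1 | h1
    · exact Or.inr (Or.inr (Or.inr (Or.inr (Or.inr (Or.inr (Or.inr (Or.inr (Or.inl h1))))))))
    · exact Or.inr (Or.inr (Or.inr (Or.inr (Or.inr (Or.inr (Or.inr (Or.inr (Or.inr h1))))))))

end Cfsg.Agent.H88.EqO
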