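import Cfsg.Agent.H88.RankTwo7
import Cfsg.Agent.R2P.Main
import Cfsg.Agent.R2P.LemD
import Cfsg.Agent.Transfer.Residual
import Cfsg.Agent.Fus.Alperin

set_option autoImplicit false
set_option maxHeartbeats 400000

/-!
# Rank two models with a central element of order `p` (helper88)
-/

namespace Cfsg.Agent.H88

open Cfsg Subgroup Cfsg.Agent.R2P
open scoped commutatorElement

universe u

theorem comm_zpow_of {G : Type*} [Group G] {X Y z : G} (h : X * Y = z * Y * X) (hzX : Commute z X) (hzY : Commute z Y)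
    (n : ℤ) : X ^ n * Y = z ^ n * Y * X ^ n := by
  have h1 : Y⁻¹ * X * Y = z * X := by
    have h2 : Y⁻¹ * z = z * Y⁻¹ := (hzY.inv_right).eq.symm
    calc Y⁻¹ * X * Y = Y⁻¹ * (X * Y) := by group
      _ = Y⁻¹ * (z * Y * X) := by rw [h]
      _ = (Y⁻¹ * z) * Y * X := by group
      _ = (z * Y⁻¹) * Y * X := by rw [h2]
      _ = z * X := by group
  have h2 : Y⁻¹ * X ^ n * Y = z ^ n * X ^ n := by
    have h3 := conj_zpow (a := Y⁻¹) (b := X) (i := n)
    rw [inv_inv, h1, hzX.mul_zpow] at h3
    exact h3.symm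
  have h3 : z ^ n * Y = Y * z ^ n := (hzY.zpow_left n).eq
  calc X ^ n * Y = Y * (Y⁻¹ * X ^ n * Y) := by group
    _ = Y * (z ^ n * X ^ n) := by rw [h2]
    _ = (Y * z ^ n) * X ^ n := by group
    _ = _ := by rw [h3]

theorem odd2 {M : Type*} [Group M] {p : ℕ} [hp : Fact p.Prime] (hp2 : p ≠ 2) (m : M) (h1 : m ^ p = 1)
    (h2 : m * m = 1) : m = 1 := by
  rw [← orderOf_eq_one_iff]
  refine Nat.eq_one_of_dvd_coprimes (?_ : Nat.Coprime p 2) (orderOf_dvd_of_pow_eq_one h1)
    (orderOf_dvd_of_pow_eq_one (by rw [pow_two]; exact h2))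
  exact (Nat.coprime_primes hp.out Nat.prime_two).2 hp2

theorem model_stable {L : Type u} [Group L] [Finite L] {p : ℕ} [hp : Fact p.Prime] (hp2 : p ≠ 2)
    (hr : ∀ A : Subgroup L, IsElementaryAbelian p A → Nat.card A ≤ p ^ 2)
    (hc : centralizer (pCore p L : Set L) ≤ pCore p L) (T : Sylow p L) {a : L} (haT : a ∈ T) (haO : a ∉ pCore p L)
    {x : L} (hxO : x ∈ pCore p L) (hx : orderOf x = p) (hxc : ∀ g : L, g * x = x * g)
    {A : Type*} [CommGroup A] (l : L → A) (hlm : ∀ q ∈ pCore p L, ∀ r ∈ pCore p L, l (q * r) = l q * l r)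
    (hlp : ∀ q ∈ pCore p L, l q ^ p = 1)
    (hlt : ∀ t : L, (∀ s ∈ T, t * s * t⁻¹ ∈ T) → ∀ q ∈ pCore p L, l (t * q * t⁻¹) = l q) :
    ∀ g : L, ∀ q ∈ pCore p L, l (g * q * g⁻¹) = l q := by
  have hxp : x ^ p = 1 := by rw [← hx, pow_orderOf_eq_one]
  have hx1 : x ≠ 1 := by
    intro h0
    rw [h0, orderOf_one] at hx
    exact hp.out.one_lt.ne hx
  have hap : ∃ k : ℕ, a ^ p ^ k = 1 := by
    obtain ⟨k, hk⟩ := T.2 ⟨a, haT⟩
    exact ⟨k, congrArg Subtype.val hk⟩
  obtain ⟨V, _, _, ρ, C, π, b, hV, hVexp, hker, hCn, hCE, hπs, hρπ, hCexp, hdich, ha', hb', ha1, hb1, hab⟩ :=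
    exists_data hp2 hr hc hap haO
  have hEp : IsPGroup p (pCore p L) := Cfsg.Agent.Solv.pCore_isPGroup p
  have hOn : (pCore p L).Normal := inferInstance
  obtain ⟨x', y', c', hx1', hy1', hax, hay, hcy, hcx, hgen⟩ := exists_gens ρ hV hVexp ha' hb' ha1 hb1 hab
  obtain ⟨⟨t, ht⟩, -⟩ := exists_torus ρ hVexp hax hay hcy hcx hgen
  -- `t` normalizes `T`
  have hOT : pCore p L ≤ T := Cfsg.Agent.Fus.pCore_le_sylow T
  have htT : ∀ s ∈ T, t * s * t⁻¹ ∈ T := by
    intro s hs
    have h1 : t * s * t⁻¹ * s⁻¹ ∈ pCore p L := by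
      rw [← hker, MonoidHom.mem_ker]
      apply MulEquiv.ext
      intro v
      have h2 : (ρ t)⁻¹ = ρ t⁻¹ := (map_inv ρ t).symm
      have h3 : ∀ v, ρ t⁻¹ v = v⁻¹ := by
        intro v
        rw [map_inv]
        apply (ρ t).injective
        rw [MulAut.apply_inv_self, ht, inv_inv]
      rw [map_mul, map_mul, map_mul, MulAut.mul_apply, MulAut.mul_apply, MulAut.mul_apply, h3, ht, map_inv (ρ s), inv_inv,
        map_inv ρ s, MulAut.apply_inv_self]
      rfl
    have h2 : t * s * t⁻¹ = (t * s * t⁻¹ * s⁻¹) * s := by group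
    rw [h2]
    exact T.mul_mem (hOT h1) hs
  rcases hdich with ⟨hCc, hinj⟩ | ⟨hnab, hZcard, hZcen⟩
  · -- the abelian case
    exfalso
    have hCard : Nat.card C = p ^ 2 := by
      rw [← hV]
      exact Nat.card_congr (Equiv.ofBijective π ⟨hinj, hπs⟩)
    have hCea : IsElementaryAbelian p C := ⟨Cfsg.Agent.BG.isMulCommutative_of_forall hCc, hCexp⟩
    have hxC : x ∈ C := mem_of_rank (P := ⊤) (fun A _ hA => hr A hA) le_top hCea hCard (mem_top x) hxp fun e _ => hxc e
    have h1 := hρπ t ⟨x, hxC⟩ ⟨x, hxC⟩ (by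
      show x = t * x * t⁻¹
      rw [hxc t]; group)
    rw [ht] at h1
    have h2 : π ⟨x, hxC⟩ = 1 := by
      apply odd2 hp2 _ (hVexp _)
      nth_rewrite 1 [h1]
      exact inv_mul_cancel _
    have h3 : (⟨x, hxC⟩ : C) = 1 := hinj (by rw [h2, map_one])
    exact hx1 (congrArg Subtype.val h3)
  · -- the extraspecial case
    obtain ⟨X, hX⟩ := hπs x'
    obtain ⟨Y, hY⟩ := hπs y'
    have hl1 : l 1 = 1 := by
      have := hlm 1 (one_mem _) 1 (one_mem _)
      rw [mul_one] at this
      exact (mul_eq_left.1 this.symm)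
    have hlinv : ∀ q ∈ pCore p L, l q⁻¹ = (l q)⁻¹ := by
      intro q hq
      have := hlm q hq q⁻¹ (inv_mem hq)
      rw [mul_inv_cancel, hl1] at this
      exact (inv_eq_of_mul_eq_one_right this.symm).symm
    set z : C := ⁅X, Y⁆ with hz
    have hZc : ∀ (w c : C), π w = 1 → Commute w c := fun w c hw => Subtype.ext (hZcen w hw c c.2)
    have hπz : π z = 1 := by
      rw [hz, map_commutatorElement, commutatorElement_eq_one_iff_mul_comm, mul_comm]
    have hzC : ∀ c : C, Commute z c := fun c => hZc z c hπz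
    have hCform0 : ∀ c : C, ∃ i j : ℕ, ∃ w : C, π w = 1 ∧ c = X ^ i * Y ^ j * w := by
      intro c
      obtain ⟨i, j, hij⟩ := hgen (π c)
      refine ⟨i, j, (X ^ i * Y ^ j)⁻¹ * c, ?_, by group⟩
      rw [map_mul, map_inv, map_mul, map_pow, map_pow, hX, hY, ← hij, inv_mul_cancel]
    have hXY : ¬ Commute X Y := by
      intro h0
      apply hnab
      have hcm : ∀ c d : C, Commute c d := by
        have hcX : ∀ c : C, Commute c X := by
          intro c
          obtain ⟨i, j, w, hw, rfl⟩ := hCform0 c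
          exact ((((Commute.refl X).pow_left i).mul_left (h0.symm.pow_left j)).mul_left (hZc w X hw))
        have hcY : ∀ c : C, Commute c Y := by
          intro c
          obtain ⟨i, j, w, hw, rfl⟩ := hCform0 c
          exact (((h0.pow_left i).mul_left ((Commute.refl Y).pow_left j)).mul_left (hZc w Y hw))
        intro c d
        obtain ⟨i, j, w, hw, rfl⟩ := hCform0 d
        exact (((hcX c).pow_right i).mul_right ((hcY c).pow_right j)).mul_right (hZc w c hw).symm
      intro c hc d hd
      exact congrArg Subtype.val (hcm ⟨c, hc⟩ ⟨d, hd⟩).eq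
    have hz1 : z ≠ 1 := by
      intro h0
      rw [hz, commutatorElement_eq_one_iff_commute] at h0
      exact hXY h0
    have hzp : orderOf z = p := orderOf_eq_prime (Subtype.ext (hCexp z z.2)) hz1
    have hkerz : ∀ w : C, π w = 1 → ∃ i : ℤ, w = z ^ i := by
      have h1 : zpowers z = π.ker := by
        refine eq_of_le_of_card_ge (by rw [zpowers_le]; exact hπz) ?_
        rw [hZcard, Nat.card_zpowers, hzp]
      intro w hw
      have h2 : w ∈ π.ker := hw
      rw [← h1] at h2
      obtain ⟨i, hi⟩ := mem_zpowers_iff.1 h2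
      exact ⟨i, hi.symm⟩
    have hCO : ∀ c : C, (c : L) ∈ pCore p L := fun c => hCE c.2
    -- `l` as a homomorphism on `C`
    let lC : C →* A :=
      { toFun := fun c => l c
        map_one' := hl1
        map_mul' := fun c d => hlm c (hCO c) d (hCO d) }
    have hlC : ∀ c : C, lC c = l c := fun c => rfl
    have hlz : lC z = 1 := by
      rw [hz, map_commutatorElement, commutatorElement_eq_one_iff_mul_comm, mul_comm]
    have hlker : ∀ w : C, π w = 1 → lC w = 1 := by
      intro w hw
      obtain ⟨i, rfl⟩ := hkerz w hw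
      rw [map_zpow, hlz, one_zpow]
    have hlC1 : ∀ c : C, lC c = 1 := by
      intro c
      set d : C := ⟨t * c * t⁻¹, hCn.conj_mem c c.2 t⟩ with hd
      have h1 : π (d * c) = 1 := by
        rw [map_mul, hρπ t c d rfl, ht, inv_mul_cancel]
      have h2 := hlker _ h1
      have h3 : lC d = lC c := hlt t htT c (hCO c)
      rw [map_mul, h3] at h2
      exact odd2 hp2 _ (hlp c (hCO c)) h2
    -- `D = C_O(C)`
    set D : Subgroup L := pCore p L ⊓ centralizer (C : Set L) with hD
    have hDn : D.Normal := inferInstance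
    have hDp : IsPGroup p D := hEp.to_le inf_le_left
    have hXY' : ¬ Commute (X : L) (Y : L) := fun h0 => hXY (Subtype.ext h0.eq)
    have hΩ : ∀ d ∈ D, d ^ p = 1 → d ∈ zpowers x := by
      intro d hd hdp
      have hXx : (X : L) ∉ zpowers x := by
        intro h0
        apply hXY'
        obtain ⟨i, hi⟩ := mem_zpowers_iff.1 h0
        rw [← hi]
        exact (Commute.zpow_left (show Commute x (Y : L) from (hxc Y).symm) i)
      have hcomm : Commute x (X : L) := (hxc X).symm
      have hE : IsElementaryAbelian p (zpowers (X : L) ⊔ zpowers x) := by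
        refine Cfsg.Agent.BG.IsElementaryAbelian.sup (Cfsg.Agent.BG.IsElementaryAbelian.zpowers (hCexp X X.2))
          (Cfsg.Agent.BG.IsElementaryAbelian.zpowers hxp) ?_
        rw [zpowers_le, mem_centralizer_iff]
        rintro w hw
        obtain ⟨i, rfl⟩ := mem_zpowers_iff.1 hw
        exact (hcomm.zpow_left i).eq
      have hEc : Nat.card ↥(zpowers (X : L) ⊔ zpowers x) = p ^ 2 := by
        apply le_antisymm (hr _ hE)
        have h3 : zpowers x < zpowers (X : L) ⊔ zpowers x := lt_of_le_of_ne le_sup_right (fun h => hXx (by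
          rw [h]; exact mem_sup_left (mem_zpowers _)))
        have h4 := Cfsg.Agent.BG.card_mul_le_of_lt (Cfsg.Agent.BG.IsElementaryAbelian.isPGroup hE) h3
        rw [Nat.card_zpowers, hx] at h4
        rwa [pow_two]
      have hdX : (X : L) * d = d * X := (mem_centralizer_iff.1 hd.2 X X.2)
      have hdY : (Y : L) * d = d * Y := (mem_centralizer_iff.1 hd.2 Y Y.2)
      have hform : ∀ e ∈ zpowers (X : L) ⊔ zpowers x, ∃ i j : ℤ, e = (X : L) ^ i * x ^ j := by
        intro e he
        have hle : zpowers x ≤ normalizer (zpowers (X : L) : Set L) := by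
          rw [zpowers_le]
          apply Subgroup.centralizer_le_normalizer
          rw [mem_centralizer_iff]
          rintro w hw
          exact hxc w
        rw [Cfsg.Agent.H85.mem_sup_iff_of_normalizes hle] at he
        obtain ⟨n, hn, m, hm, rfl⟩ := he
        obtain ⟨i, rfl⟩ := mem_zpowers_iff.1 hn
        obtain ⟨j, rfl⟩ := mem_zpowers_iff.1 hm
        exact ⟨i, j, rfl⟩
      have hdE : d ∈ zpowers (X : L) ⊔ zpowers x :=
        mem_of_rank (P := ⊤) (fun A _ hA => hr A hA) le_top hE hEc (mem_top d) hdp fun e he => by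
          obtain ⟨i, j, rfl⟩ := hform e he
          exact ((Commute.zpow_left (show Commute (X : L) d from hdX) i).mul_left
            (Commute.zpow_left (show Commute x d from (hxc d).symm) j)).eq
      obtain ⟨i, j, hij⟩ := hform d hdE
      have h5 : Commute ((X : L) ^ i) (Y : L) := by
        have h6 : (X : L) ^ i = d * (x ^ j)⁻¹ := by rw [hij]; group
        rw [h6]
        exact (show Commute d (Y : L) from hdY.symm).mul_left
          (Commute.zpow_left (show Commute x (Y : L) from (hxc Y).symm) j).inv_left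
      have h6 : (p : ℤ) ∣ i := by
        by_contra hpi
        apply hXY'
        have hcop : IsCoprime i (p : ℤ) := by
          rw [isCoprime_comm, Prime.coprime_iff_not_dvd (Nat.prime_iff_prime_int.1 hp.out)]
          exact hpi
        obtain ⟨u, v, huv⟩ := hcop
        have h7 : (X : L) = ((X : L) ^ i) ^ u := by
          have h8 : (X : L) ^ (u * i + v * (p : ℤ)) = X := by rw [huv, zpow_one]
          rw [zpow_add, mul_comm v, zpow_mul (X : L) (p : ℤ) v, zpow_natCast, hCexp X X.2, one_zpow, mul_one,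
            mul_comm, zpow_mul] at h8
          exact h8.symm
        rw [h7]
        exact h5.zpow_left u
      obtain ⟨m, hm⟩ := h6
      rw [hij, hm, zpow_mul, zpow_natCast, hCexp X X.2, one_zpow, one_mul]
      exact zpow_mem (mem_zpowers x) j
    have hpprime : ∀ h : L, (orderOf h).Coprime p → ∀ d ∈ D, h * d * h⁻¹ = d := by
      intro h hh d hd
      have h1 : zpowers h ≤ centralizer (D : Set L) := by
        refine BG.le_centralizer_of_omega1 hp2 (zpowers h) (by rwa [Nat.card_zpowers]) _ D rfl hDp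
          (le_normalizer_of_normal) ?_
        intro w hw hwp g _
        obtain ⟨i, rfl⟩ := mem_zpowers_iff.1 (hΩ w hw hwp)
        exact (Commute.zpow_right (show Commute g x from hxc g) i).eq
      rw [← mem_centralizer_iff.1 (h1 (mem_zpowers h)) d hd]; group
    -- `O = C D`
    have hdec : ∀ q ∈ pCore p L, ∃ c : C, (c : L)⁻¹ * q ∈ D := by
      intro q hq
      have hq1 : ρ q = 1 := by rw [← MonoidHom.mem_ker, hker]; exact hq
      have hcq : ∀ W : C, ∃ i : ℤ, q * W * q⁻¹ = (z : L) ^ i * W := by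
        intro W
        set d : C := ⟨q * W * q⁻¹, hCn.conj_mem W W.2 q⟩ with hd
        have h1 : π (d * W⁻¹) = 1 := by
          rw [map_mul, hρπ q W d rfl, hq1, map_inv]
          exact mul_inv_cancel _
        obtain ⟨i, hi⟩ := hkerz _ h1
        refine ⟨i, ?_⟩
        have h2 : d = z ^ i * W := by rw [← hi]; group
        have h3 := congrArg Subtype.val h2
        exact h3
      obtain ⟨m1, hm1⟩ := hcq X
      obtain ⟨m2, hm2⟩ := hcq Y
      have hzX : Commute (z : L) (X : L) := congrArg Subtype.val (hzC X).eq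
      have hzY : Commute (z : L) (Y : L) := congrArg Subtype.val (hzC Y).eq
      have hz0 : (z : L) = (X : L) * Y * (X : L)⁻¹ * (Y : L)⁻¹ := by rw [hz]; rfl
      have e1 : (X : L) * Y = z * Y * X := by
        have : (z : L) * Y * X = ((z : L) * (Y * X)) := by group
        rw [this, hz0]; group
      have e2 : (Y : L) * X = (z : L)⁻¹ * X * Y := by
        have : (z : L)⁻¹ * X * Y = (z : L)⁻¹ * (X * Y) := by group
        rw [this, e1]; group
      refine ⟨X ^ m2 * Y ^ (-m1), ?_⟩
      have hcL : ((X ^ m2 * Y ^ (-m1) : C) : L) = (X : L) ^ m2 * (Y : L) ^ (-m1) := by push_cast; rfl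
      rw [hcL]
      set c : L := (X : L) ^ m2 * (Y : L) ^ (-m1) with hc'
      have f1 : (Y : L) ^ (-m1) * X = (z : L) ^ m1 * X * (Y : L) ^ (-m1) := by
        have := comm_zpow_of e2 hzY.inv_left hzX.inv_left (-m1)
        rw [this]
        congr 2
        rw [inv_zpow, zpow_neg, inv_inv]
      have f2 : (X : L) ^ m2 * Y = (z : L) ^ m2 * Y * (X : L) ^ m2 := comm_zpow_of e1 hzX hzY m2
      have g1 : c * X * c⁻¹ = (z : L) ^ m1 * X := by
        have h3 : (X : L) ^ m2 * (z : L) ^ m1 = (z : L) ^ m1 * (X : L) ^ m2 := (hzX.zpow_zpow m1 m2).eq.symm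
        calc c * X * c⁻¹ = (X : L) ^ m2 * ((Y : L) ^ (-m1) * X) * ((Y : L) ^ (-m1))⁻¹ * ((X : L) ^ m2)⁻¹ := by
              rw [hc']; group
          _ = ((X : L) ^ m2 * (z : L) ^ m1) * X * ((X : L) ^ m2)⁻¹ := by rw [f1]; group
          _ = ((z : L) ^ m1 * (X : L) ^ m2) * X * ((X : L) ^ m2)⁻¹ := by rw [h3]
          _ = (z : L) ^ m1 * X := by group
      have g2 : c * Y * c⁻¹ = (z : L) ^ m2 * Y := by
        calc c * Y * c⁻¹ = ((X : L) ^ m2 * Y) * ((X : L) ^ m2)⁻¹ := by
              rw [hc']; group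
          _ = (z : L) ^ m2 * Y := by rw [f2]; group
      set g := c⁻¹ * q with hg
      have g3 : g * X * g⁻¹ = X := by
        calc g * X * g⁻¹ = c⁻¹ * (q * X * q⁻¹) * c := by rw [hg]; group
          _ = c⁻¹ * (c * X * c⁻¹) * c := by rw [hm1, g1]
          _ = X := by group
      have g4 : g * Y * g⁻¹ = Y := by
        calc g * Y * g⁻¹ = c⁻¹ * (q * Y * q⁻¹) * c := by rw [hg]; group
          _ = c⁻¹ * (c * Y * c⁻¹) * c := by rw [hm2, g2]
          _ = Y := by group
      have cX : Commute g (X : L) := by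
        show g * X = X * g
        nth_rewrite 2 [← g3]; group
      have cY : Commute g (Y : L) := by
        show g * Y = Y * g
        nth_rewrite 2 [← g4]; group
      have cz : Commute g (z : L) := by
        rw [hz0]
        exact ((cX.mul_right cY).mul_right cX.inv_right).mul_right cY.inv_right
      refine mem_inf.2 ⟨?_, ?_⟩
      · refine (pCore p L).mul_mem ((pCore p L).inv_mem ?_) hq
        rw [← hcL]
        exact hCO _
      · rw [mem_centralizer_iff]
        intro d hd
        obtain ⟨i, j, w, hw, hdw⟩ := hCform0 ⟨d, hd⟩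
        obtain ⟨k, rfl⟩ := hkerz w hw
        have h3 : d = (X : L) ^ i * (Y : L) ^ j * (z : L) ^ k := by
          have := congrArg Subtype.val hdw
          push_cast at this
          exact this
        rw [h3]
        exact (((cX.pow_right i).mul_right (cY.pow_right j)).mul_right (cz.zpow_right k)).eq.symm
    -- the stabilizer
    let M : Subgroup L :=
      { carrier := {g | ∀ q ∈ pCore p L, l (g * q * g⁻¹) = l q}
        mul_mem' := by
          intro g h hg hh q hq
          have : g * h * q * (g * h)⁻¹ = g * (h * q * h⁻¹) * g⁻¹ := by group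
          rw [this, hg _ (hOn.conj_mem q hq h), hh q hq]
        one_mem' := by intro q _; simp
        inv_mem' := by
          intro g hg q hq
          have h1 := hg (g⁻¹ * q * g⁻¹⁻¹) (hOn.conj_mem q hq g⁻¹)
          have : g * (g⁻¹ * q * g⁻¹⁻¹) * g⁻¹ = q := by group
          rw [this] at h1
          exact h1.symm }
    have hMT : (T : Subgroup L) ≤ M := by
      intro s hs q hq
      exact hlt s (fun s' hs' => T.mul_mem (T.mul_mem hs hs') (T.inv_mem hs)) q hq
    have hMR : pResidual p L ≤ M := by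
      rw [pResidual, closure_le]
      intro h hh q hq
      obtain ⟨c, hc⟩ := hdec q hq
      set d := (c : L)⁻¹ * q with hd
      have hdO : d ∈ pCore p L := hc.1
      have h1 : q = c * d := by rw [hd]; group
      have h2 : h * q * h⁻¹ = (h * c * h⁻¹) * d := by
        calc h * q * h⁻¹ = (h * c * h⁻¹) * (h * d * h⁻¹) := by rw [h1]; group
          _ = _ := by rw [hpprime h hh d hc]
      have h3 : l (h * c * h⁻¹) = 1 := hlC1 ⟨h * c * h⁻¹, hCn.conj_mem c c.2 h⟩
      have h4 : l (c : L) = 1 := hlC1 c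
      rw [h2, hlm _ (hOn.conj_mem c (hCO c) h) _ hdO, h3, h1, hlm _ (hCO c) _ hdO, h4]
    have htop : M = ⊤ := by
      rw [eq_top_iff, ← Cfsg.Agent.Transfer.sylow_sup_pResidual T]
      exact sup_le hMT hMR
    intro g q hq
    have : g ∈ M := by rw [htop]; exact mem_top g
    exact this q hq

end Cfsg.Agent.H88
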