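import Cfsg.Agent.H88.RTS1
import Cfsg.Agent.R2P.Glue
import Cfsg.Agent.Fus.PExt
import Cfsg.Agent.Fus.ElemTate

set_option autoImplicit false
set_option maxHeartbeats 400000

/-!
# Stability of elementary abelian quotients in rank two (helper88)
-/

namespace Cfsg.Agent.H88

open Cfsg Subgroup Cfsg.FusionSystem Cfsg.Agent.Fus Cfsg.Agent.Fus.Bi

universe u v

section lx

variable {Ω : Type u} [Group Ω] {S : Subgroup Ω} {A : Type v} [CommGroup A]

open Classical in
/-- extension by `1` -/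
noncomputable def lx (l : S →* A) (g : Ω) : A := if h : g ∈ S then l ⟨g, h⟩ else 1

theorem lx_of {l : S →* A} {g : Ω} (h : g ∈ S) : lx l g = l ⟨g, h⟩ := dif_pos h

theorem lx_mul {l : S →* A} {g h : Ω} (hg : g ∈ S) (hh : h ∈ S) : lx l (g * h) = lx l g * lx l h := by
  rw [lx_of hg, lx_of hh, lx_of (S.mul_mem hg hh), ← map_mul]
  rfl

theorem lx_inv {l : S →* A} {g : Ω} (hg : g ∈ S) : lx l g⁻¹ = (lx l g)⁻¹ := by
  rw [lx_of hg, lx_of (S.inv_mem hg), ← map_inv]
  rfl

theorem lx_conj {l : S →* A} {g h : Ω} (hg : g ∈ S) (hh : h ∈ S) : lx l (g * h * g⁻¹) = lx l h := by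
  rw [lx_mul (S.mul_mem hg hh) (S.inv_mem hg), lx_mul hg hh, lx_inv hg]
  rw [mul_comm (lx l g), mul_inv_cancel_right]

theorem mapSpec_lx (F : FusionSystem S) (l : S →* A) :
    MapSpec S (fun P f => IsMap F P f ∧ ∀ u ∈ P, lx l (f u) = lx l u) where
  congr := by
    rintro P f g ⟨h1, h2⟩ h
    exact ⟨h1.congr h, fun x hx => by rw [← h x hx]; exact h2 x hx⟩
  le h := h.1.le
  mem h x hx := h.1.mem hx
  mul h x hx y hy := h.1.map_mul hx hy
  inj h x hx y hy := h.1.inj hx hy
  conj := by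
    intro P g hP hg
    exact ⟨isMap_conj hP hg, fun x hx => lx_conj hg (hP hx)⟩
  comp := by
    rintro P Q f g ⟨h1, h2⟩ ⟨h3, h4⟩ hc
    exact ⟨h3.comp h1 hc, fun x hx => (h4 _ (hc x hx)).trans (h2 x hx)⟩
  inv := by
    rintro P f ⟨h1, h2⟩
    refine ⟨minv P f, fun x hx => h1.minv_apply hx, h1.minv_isMap, ?_⟩
    intro y hy
    obtain ⟨x, hx, rfl⟩ := h1.mem_img.mp hy
    rw [h1.minv_apply hx]
    exact (h2 x hx).symm

end lx

/-- **Stability**: `F` saturated of rank two, `p` odd, `x` a central element fixed by every map: a homomorphism from `S`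
to a group of exponent `p` is `F`-stable as soon as it is `Aut_F(S)`-invariant -/
theorem stable_of_autS {Ω : Type u} [Group Ω] {S : Subgroup Ω} {F : FusionSystem S} {p : ℕ} [hp : Fact p.Prime]
    [Finite S] (hp2 : p ≠ 2) (hS : IsPGroup p S) (hF : F.IsSaturated p)
    (hr : ∀ A : Subgroup Ω, A ≤ S → IsElementaryAbelian p A → Nat.card A ≤ p ^ 2) {x : Ω} (hxS : x ∈ S)
    (hx : orderOf x = p) (hxf : ∀ P f, IsMap F P f → x ∈ P → f x = x) {A : Type v} [CommGroup A] (l : S →* A)
    (hlp : ∀ s, l s ^ p = 1) (hlS : ∀ f, IsMap F S f → ∀ u ∈ S, lx l (f u) = lx l u) : Stable F l := by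
  let E := (mapSpec_lx F l).toFS
  have hE : ∀ P f, IsMap E P f ↔ IsMap F P f ∧ ∀ u ∈ P, lx l (f u) = lx l u :=
    fun P f => (mapSpec_lx F l).isMap_toFS
  have hle : F ≤ E := by
    refine alperin_radical_ind hS hF fun P hPn hPc hPr ih α hα => ?_
    have hPS : P ≤ S := hPn.1
    have hfP : Finite P := finite_of_le hPS
    rw [mem_autGroup_iff hPS, hE]
    have hmapα : IsMap F P (ofAut α) := isMap_ofAut hPS hα
    refine ⟨hmapα, ?_⟩
    by_cases hne : P = S
    · subst hne
      exact hlS _ hmapα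
    have hxP : x ∈ P := by
      apply hPc.2 P (isConj_refl hPS)
      refine ⟨hxS, ?_⟩
      show x ∈ centralizer (P : Set Ω)
      rw [mem_centralizer_iff]
      intro h hh
      have h1 := hxf S _ (isMap_conj le_rfl (hPS hh)) hxS
      have h2 : h * x * h⁻¹ = x := h1
      nth_rewrite 2 [← h2]; group
    obtain ⟨N, hN⟩ := exists_isNormalizerSystem F hPS
    haveI hfN : Finite (normalizerIn S P) := finite_of_le (normalizerIn_le P)
    have hSN : IsPGroup p (normalizerIn S P) := isPGroup_of_le hS (normalizerIn_le P)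
    obtain ⟨L, hLg, ι, hM⟩ := exists_model hSN (isConstrained_normSys hS hF hPn hPc hN)
    have hcore : coreOf p ι = P := coreOf_normSys_radical hS hPc hPr hN hM
    haveI : Finite L := hM.1
    have hι : Function.Injective ι := hM.2.1.1
    obtain ⟨n, hnN, hnP⟩ := SetLike.exists_of_lt (lt_normalizerIn hS (lt_of_le_of_ne hPS hne))
    have hrL := R2P.rank_model (S := normalizerIn S P) (p := p) (fun A hA => hr A (hA.trans (normalizerIn_le P))) hι
      hM.2.2.1
    have hnot : jj ι n ∉ pCore p L := by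
      intro h1
      apply hnP
      rw [← hcore]
      exact mem_coreOf.2 ⟨hnN, h1⟩
    obtain ⟨T, hT⟩ := hM.2.2.1
    have hRS : (normalizerIn S P) ≤ S := normalizerIn_le P
    have hPR : P ≤ (normalizerIn S P) := le_normalizerIn hPS
    have hcardlt : Nat.card P < Nat.card (normalizerIn S P) := by
      have hlt : P < (normalizerIn S P) := lt_normalizerIn hS (lt_of_le_of_ne hPS hne)
      by_contra hcon
      exact absurd (Subgroup.eq_of_le_of_card_ge hlt.le (not_lt.1 hcon)) hlt.ne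
    have hjT : ∀ {u : Ω}, u ∈ (normalizerIn S P) → jj ι u ∈ T := by
      intro u hu
      have h1 : jj ι u ∈ ι.range := ⟨⟨u, hu⟩, by rw [jj_apply hu]⟩
      rw [← hT] at h1
      exact h1
    have hTj : ∀ {s : L}, s ∈ T → ∃ u ∈ (normalizerIn S P), jj ι u = s := by
      intro s hs
      have h1 : s ∈ ι.range := by rw [← hT]; exact hs
      obtain ⟨⟨u, hu⟩, rfl⟩ := h1
      exact ⟨u, hu, jj_apply hu⟩
    have hOj : ∀ {q : L}, q ∈ pCore p L → ∃ u ∈ P, jj ι u = q := by
      intro q hq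
      obtain ⟨s, hs, hsq⟩ := pCore_exists hM hq
      rw [hcore] at hs
      exact ⟨s, hs, hsq⟩
    have hjO : ∀ {u : Ω}, u ∈ P → jj ι u ∈ pCore p L := by
      intro u hu
      rw [← hcore] at hu
      exact (mem_coreOf.1 hu).2
    -- maps realized by elements of `L`
    have hreal : ∀ g : L, ∀ Q : Subgroup Ω, Q ≤ (normalizerIn S P) → (∀ u ∈ Q, ∃ v ∈ (normalizerIn S P), jj ι v = g * jj ι u * g⁻¹) →
        ∃ β : Ω → Ω, IsMap F Q β ∧ ∀ u ∈ Q, β u ∈ (normalizerIn S P) ∧ jj ι (β u) = g * jj ι u * g⁻¹ := by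
      intro g Q hQ hex
      have hex' : ∀ u : Ω, ∃ v, u ∈ Q → v ∈ (normalizerIn S P) ∧ jj ι v = g * jj ι u * g⁻¹ := by
        intro u
        by_cases hu : u ∈ Q
        · obtain ⟨v, hv, hvu⟩ := hex u hu
          exact ⟨v, fun _ => ⟨hv, hvu⟩⟩
        · exact ⟨1, fun h => absurd h hu⟩
      choose β hβ using hex'
      refine ⟨β, isMap_of_normSys hN ((isMap_realized hM.2.1).mpr ⟨hQ, fun u hu => (hβ u hu).1, g,
        fun u hu => (hβ u hu).2⟩), fun u hu => hβ u hu⟩
    -- the function on `L`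
    let lL : L → A := fun q => lx l (Function.invFunOn (jj ι) ((normalizerIn S P) : Set Ω) q)
    have hlL : ∀ u ∈ (normalizerIn S P), lL (jj ι u) = lx l u := by
      intro u hu
      have hex : ∃ a ∈ ((normalizerIn S P) : Set Ω), jj ι a = jj ι u := ⟨u, hu, rfl⟩
      have h1 : Function.invFunOn (jj ι) ((normalizerIn S P) : Set Ω) (jj ι u) ∈ ((normalizerIn S P) : Set Ω) := Function.invFunOn_mem hex
      have h2 : jj ι (Function.invFunOn (jj ι) ((normalizerIn S P) : Set Ω) (jj ι u)) = jj ι u := Function.invFunOn_eq hex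
      have h3 := jj_inj hι h1 hu h2
      show lx l _ = lx l u
      rw [h3]
    have hxo : orderOf (jj ι x) = p := by
      rw [jj_apply (hPR hxP), orderOf_injective ι hι, ← Subgroup.orderOf_coe]
      exact hx
    have hxcen : ∀ g : L, g * jj ι x = jj ι x * g := by
      intro g
      obtain ⟨β, hβ, hβ'⟩ := hreal g P hPR (fun u hu => by
        obtain ⟨v, hv, hvu⟩ := hOj ((inferInstance : (pCore p L).Normal).conj_mem _ (hjO hu) g)
        exact ⟨v, hPR hv, hvu⟩)
      have h1 := (hβ' x hxP).2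
      rw [hxf P β hβ hxP] at h1
      nth_rewrite 2 [h1]; group
    have main := model_stable hp2 hrL hM.2.2.2 T (hjT hnN) hnot (hjO hxP) hxo hxcen lL
      (by
        intro q hq r hr'
        obtain ⟨u, hu, rfl⟩ := hOj hq
        obtain ⟨v, hv, rfl⟩ := hOj hr'
        rw [← jj_mul (hPR hu) (hPR hv), hlL _ ((normalizerIn S P).mul_mem (hPR hu) (hPR hv)), hlL _ (hPR hu), hlL _ (hPR hv),
          lx_mul (hPS hu) (hPS hv)])
      (by
        intro q hq
        obtain ⟨u, hu, rfl⟩ := hOj hq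
        rw [hlL _ (hPR hu), lx_of (hPS hu)]
        exact hlp _)
      (by
        intro t htT q hq
        obtain ⟨β, hβ, hβ'⟩ := hreal t (normalizerIn S P) le_rfl (fun u hu => hTj (htT _ (hjT hu)))
        have h1 := ((hE _ _).1 (ih (normalizerIn S P) β hcardlt hβ)).2
        obtain ⟨u, hu, rfl⟩ := hOj hq
        obtain ⟨h2, h3⟩ := hβ' u (hPR hu)
        rw [← h3, hlL _ h2, hlL _ (hPR hu)]
        exact h1 u (hPR hu))
    intro u hu
    have hαN : α ∈ N.autGroup P := by rw [autGroup_normSys hPS hN]; exact hα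
    have hmapN := isMap_ofAut hPR hαN
    obtain ⟨-, h1, g, hg⟩ := (isMap_realized hM.2.1).mp hmapN
    rw [← hlL _ (h1 u hu), hg u hu, main g _ (hjO hu), hlL _ (hPR hu)]
  intro P f hf u hu
  have h1 := ((hE P f).1 (le_iff.mp hle P f hf)).2 u hu
  rwa [lx_of (hf.mem hu), lx_of (hf.le hu)] at h1

end Cfsg.Agent.H88
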