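import Cfsg.Agent.H88.RTS2
import Cfsg.Agent.S3049
import Cfsg.Agent.Fus.Hyper
import Cfsg.Agent.Fus.Group
import Cfsg.Agent.Solv.Frattini

set_option autoImplicit false
set_option maxHeartbeats 400000

/-!
# The Sylow subgroups of a group with an isolated element of order `p`, rank two (helper88)
-/

namespace Cfsg.Agent.H88

open Cfsg Subgroup Cfsg.FusionSystem Cfsg.Agent.Fus Cfsg.Agent.Fus.Bi
open scoped commutatorElement

universe u

theorem exists_sz {G : Type u} [Group G] [Finite G] {p : ℕ} [hp : Fact p.Prime] (P : Sylow p G) :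
    ∃ K : Subgroup G, K ≤ normalizer ((P : Subgroup G) : Set G) ∧ (Nat.card K).Coprime p ∧
      ∀ g ∈ normalizer ((P : Subgroup G) : Set G), ∃ u ∈ (P : Subgroup G), ∃ k ∈ K, g = u * k := by
  set N : Subgroup G := normalizer ((P : Subgroup G) : Set G) with hN
  have hPN : (P : Subgroup G) ≤ N := le_normalizer
  set P' : Subgroup N := (P : Subgroup G).subgroupOf N with hP'
  haveI hn : P'.Normal := by
    refine ⟨fun n hn g => ?_⟩
    rw [hP', mem_subgroupOf] at hn ⊢
    exact (mem_normalizer_iff.1 g.2 n).1 hn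
  have hcard : Nat.card P' = Nat.card P := Nat.card_congr (subgroupOfEquivOfLe hPN).toEquiv
  have hidx : P'.index.Coprime p := by
    have h1 : P'.index ∣ (P : Subgroup G).index := relIndex_dvd_index_of_le hPN
    rw [Nat.coprime_comm, hp.out.coprime_iff_not_dvd]
    exact fun h => P.not_dvd_index (h.trans h1)
  obtain ⟨n, hn'⟩ := IsPGroup.iff_card.1 P.2
  have hcop : (Nat.card P').Coprime P'.index := by
    rw [hcard]
    show (Nat.card (P : Subgroup G)).Coprime _
    rw [hn']
    exact (Nat.coprime_comm.1 hidx).pow_left n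
  obtain ⟨H, hH⟩ := exists_right_complement'_of_coprime hcop
  have hHc : Nat.card H = P'.index := by
    have h1 := hH.card_mul
    rw [← P'.card_mul_index] at h1
    exact Nat.eq_of_mul_eq_mul_left Nat.card_pos h1
  refine ⟨H.map N.subtype, ?_, ?_, ?_⟩
  · rintro _ ⟨k, _, rfl⟩
    exact k.2
  · rw [Nat.card_congr (H.equivMapOfInjective N.subtype N.subtype_injective).toEquiv.symm, hHc]
    exact hidx
  · intro g hg
    have h1 : (⟨g, hg⟩ : N) ∈ P' ⊔ H := by rw [hH.sup_eq_top]; exact mem_top _
    rw [Cfsg.Agent.H85.mem_sup_iff_of_normalizes (by rw [normalizer_eq_top]; exact le_top)] at h1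
    obtain ⟨u, hu, k, hk, huk⟩ := h1
    exact ⟨u, hu, k, ⟨k, hk, rfl⟩, (congrArg Subtype.val huk).symm⟩

theorem commutator_eq_of_isolated {G : Type u} [Group G] [Finite G] {p : ℕ} [hp : Fact p.Prime] (hp2 : p ≠ 2)
    (hres : pResidual p G = ⊤) (hrank : PRankLE p 2 G) (P : Sylow p G) {x : G} (hxP : x ∈ (P : Subgroup G))
    (hx : orderOf x = p) (hiso : IsIsolated x) {K : Subgroup G} (hK : K ≤ normalizer ((P : Subgroup G) : Set G))
    (hgen : ∀ g ∈ normalizer ((P : Subgroup G) : Set G), ∃ u ∈ (P : Subgroup G), ∃ k ∈ K, g = u * k) :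
    ⁅(P : Subgroup G), K⁆ = (P : Subgroup G) := by
  set Q : Subgroup G := ⁅(P : Subgroup G), K⁆ with hQ
  have hQP : Q ≤ (P : Subgroup G) := le_normalizer_iff_commutator_le_left.1 hK
  by_contra hne
  set Q' : Subgroup ↥(P : Subgroup G) := Q.subgroupOf P with hQ'
  have hQ't : Q' ≠ ⊤ := by
    intro h0
    rw [hQ', subgroupOf_eq_top] at h0
    exact hne (le_antisymm hQP h0)
  set M : Subgroup ↥(P : Subgroup G) := frattini ↥(P : Subgroup G) ⊔ Q' with hM
  have hMt : M ≠ ⊤ := by
    intro h0
    apply hQ't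
    exact frattini_nongenerating (by rw [sup_comm]; exact h0)
  have hcomm : commutator ↥(P : Subgroup G) ≤ M := (Cfsg.Agent.Solv.commutator_le_frattini_of_pGroup P.2).trans le_sup_left
  haveI hMn : M.Normal := Subgroup.Normal.of_commutator_le _ hcomm
  let _ : CommGroup (↥(P : Subgroup G) ⧸ M) :=
    { (inferInstance : Group (↥(P : Subgroup G) ⧸ M)) with
      mul_comm := ((Subgroup.Normal.quotient_commutative_iff_commutator_le).mpr hcomm).is_comm.comm }
  have hxc := Cfsg.Agent.S3049.central_of_isolated hiso P hxP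
  set l : ↥(P : Subgroup G) →* (↥(P : Subgroup G) ⧸ M) := QuotientGroup.mk' M with hl
  have hker : ∀ u, l u = 1 ↔ u ∈ M := fun u => QuotientGroup.eq_one_iff u
  have hst : Stable (groupFusionSystem (P : Subgroup G)) l := by
    refine stable_of_autS hp2 P.2 (group_saturated P) (fun A _ hA => hrank A hA.1 hA.2) hxP hx ?_ l ?_ ?_
    · intro R f hf hxR
      obtain ⟨hR, hRS, g, hg⟩ := isMap_group.1 hf
      rw [hg x hxR]
      apply hiso
      have h1 := hRS x hxR
      rw [hg x hxR] at h1
      exact hxc _ h1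
    · intro s
      rw [← map_pow, hker]
      exact (le_sup_left : frattini _ ≤ M) (Cfsg.Agent.Solv.pow_mem_frattini_of_pGroup P.2 s)
    · intro f hf u hu
      obtain ⟨hR, hRS, g, hg⟩ := isMap_group.1 hf
      -- `g` normalizes `P`
      have hgN : g ∈ normalizer ((P : Subgroup G) : Set G) := by
        have h1 : (P : Subgroup G).map (MulAut.conj g).toMonoidHom = (P : Subgroup G) := by
          apply Subgroup.eq_of_le_of_card_ge
          · rintro _ ⟨v, hv, rfl⟩
            have := hRS v hv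
            rw [hg v hv] at this
            exact this
          · rw [Nat.card_congr ((P : Subgroup G).equivMapOfInjective _ (MulAut.conj g).injective).toEquiv.symm]
        rw [mem_normalizer_iff]
        intro v
        constructor
        · intro hv
          have h2 : g * v * g⁻¹ ∈ (P : Subgroup G).map (MulAut.conj g).toMonoidHom := ⟨v, hv, rfl⟩
          rw [h1] at h2
          exact h2
        · intro hv
          have h2 : g * v * g⁻¹ ∈ (P : Subgroup G).map (MulAut.conj g).toMonoidHom := by rw [h1]; exact hv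
          obtain ⟨v', hv', hvv⟩ := h2
          have h3 : g * v' * g⁻¹ = g * v * g⁻¹ := hvv
          have h4 : v' = v := by simpa using h3
          rw [← h4]; exact hv'
      obtain ⟨w, hw, k, hk, rfl⟩ := hgen g hgN
      have hku : k * u * k⁻¹ ∈ (P : Subgroup G) := (mem_normalizer_iff.1 (hK hk) u).1 hu
      have h1 : f u = w * (k * u * k⁻¹) * w⁻¹ := by rw [hg u hu]; group
      rw [h1, lx_conj hw hku]
      have h2 : k * u * k⁻¹ = ⁅k, u⁆ * u := by rw [commutatorElement_def]; group
      have h3 : ⁅k, u⁆ ∈ Q := by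
        rw [hQ, commutator_comm]
        exact commutator_mem_commutator hk hu
      rw [h2, lx_mul (hQP h3) hu, lx_of (hQP h3)]
      have h4 : l ⟨⁅k, u⁆, hQP h3⟩ = 1 := by
        rw [hker]
        exact (le_sup_right : Q' ≤ M) h3
      rw [h4, one_mul]
  rw [stable_iff] at hst
  apply hMt
  rw [eq_top_iff]
  intro u _
  rw [← hker]
  have h1 := hst u u.2 (by
    apply hyper_le_focal (p := p)
    rw [hyper_group P, hres]
    exact ⟨u.2, mem_top _⟩)
  exact h1

theorem sylow_isolated {G : Type u} [Group G] [Finite G] {p : ℕ} [hp : Fact p.Prime] (hp2 : p ≠ 2)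
    (hres : pResidual p G = ⊤) (hrank : PRankLE p 2 G) (P : Sylow p G) {x : G} (hxP : x ∈ (P : Subgroup G))
    (hx : orderOf x = p) (hiso : IsIsolated x) :
    (Nat.card (P : Subgroup G) = p ^ 3 ∧ (∀ g ∈ (P : Subgroup G), g ^ p = 1) ∧
      ¬ ∀ a ∈ (P : Subgroup G), ∀ b ∈ (P : Subgroup G), a * b = b * a) ∨
    (p = 3 ∧ ∃ k, 2 ≤ k ∧ Nat.card (P : Subgroup G) = 3 ^ (2 * k + 1) ∧
      Group.nilpotencyClass ↥(P : Subgroup G) = 2 * k) := by
  obtain ⟨K, hK, hcop, hgen⟩ := exists_sz P
  have hxc := Cfsg.Agent.S3049.central_of_isolated hiso P hxP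
  refine key_prop hp2 P.2 hK hcop (commutator_eq_of_isolated hp2 hres hrank P hxP hx hiso hK hgen)
    (fun A _ hA => hrank A hA.1 hA.2) hx hxP (fun u hu => (hxc u hu).eq.symm) ?_
  intro k hk
  have h1 : k * x * k⁻¹ ∈ (P : Subgroup G) := (mem_normalizer_iff.1 (hK hk) x).1 hxP
  have h2 := hiso k (hxc _ h1)
  calc k * x = (k * x * k⁻¹) * k := by group
    _ = x * k := by rw [h2]

end Cfsg.Agent.H88
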