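import Mathlib
import Cfsg.Agent.BG.OmegaOdd
import Cfsg.Agent.H65.RankTwoP
import Cfsg.Agent.H85.RelSylow
import Cfsg.Agent.H23.PGroupNormal
import Cfsg.Agent.H23.RankTwoGraph

set_option autoImplicit false
set_option maxHeartbeats 400000

/-!
# Coprime action on `p`-groups of rank two with a central fixed element (helper88)
-/

namespace Cfsg.Agent.H88

open Subgroup Cfsg.Agent.H85
open scoped commutatorElement

section Rank

variable {G : Type*} [Group G] [Finite G] {p : ℕ} [hp : Fact p.Prime]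

theorem mem_of_rank {P E : Subgroup G}
    (hr : ∀ A : Subgroup G, A ≤ P → Cfsg.IsElementaryAbelian p A → Nat.card A ≤ p ^ 2)
    (hEP : E ≤ P) (hE : Cfsg.IsElementaryAbelian p E) (hEc : Nat.card E = p ^ 2) {c : G} (hcP : c ∈ P)
    (hcp : c ^ p = 1) (hc : ∀ e ∈ E, e * c = c * e) : c ∈ E := by
  have hle : zpowers c ≤ normalizer (E : Set G) := by
    rw [zpowers_le]
    apply Subgroup.centralizer_le_normalizer
    rw [mem_centralizer_iff]
    exact hc
  have hform : ∀ a ∈ E ⊔ zpowers c, ∃ n ∈ E, ∃ k : ℤ, a = n * c ^ k := by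
    intro a ha
    rw [mem_sup_iff_of_normalizes hle] at ha
    obtain ⟨n, hn, z, hz, haz⟩ := ha
    obtain ⟨k, rfl⟩ := mem_zpowers_iff.1 hz
    exact ⟨n, hn, k, haz.symm⟩
  have hcomm : ∀ a ∈ E, ∀ b ∈ E, a * b = b * a := fun a ha b hb =>
    congrArg Subtype.val (hE.1.is_comm.comm ⟨a, ha⟩ ⟨b, hb⟩)
  have h1 := hr (E ⊔ zpowers c) (sup_le hEP (zpowers_le.2 hcP)) (by
    refine ⟨⟨⟨?_⟩⟩, ?_⟩
    · rintro ⟨a, ha⟩ ⟨b, hb⟩
      obtain ⟨n, hn, k, rfl⟩ := hform a ha
      obtain ⟨m, hm, l, rfl⟩ := hform b hb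
      apply Subtype.ext
      have c1 : Commute n m := hcomm n hn m hm
      have c2 : Commute n c := hc n hn
      have c3 : Commute m c := hc m hm
      exact (((c1.mul_right (c2.zpow_right l))).mul_left
        ((c3.symm.zpow_left k).mul_right ((Commute.refl c).zpow_zpow k l))).eq
    · intro a ha
      obtain ⟨n, hn, k, rfl⟩ := hform a ha
      have c2 : Commute n c := hc n hn
      rw [(c2.zpow_right k).mul_pow, hE.2 n hn, one_mul, ← zpow_natCast, ← zpow_mul, mul_comm, zpow_mul,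
        zpow_natCast, hcp, one_zpow])
  have h2 : E = E ⊔ zpowers c := Subgroup.eq_of_le_of_card_ge le_sup_left (by rw [hEc]; exact h1)
  rw [h2]
  exact (le_sup_right : zpowers c ≤ _) (mem_zpowers c)

/-- a `p`-group acts trivially on `W / ⟨x⟩` for `W` normal of order `p²` and `x ∈ W` central of order `p` -/
theorem comm_mem_zpowers {P W : Subgroup G} (hP : IsPGroup p P) (hWP : W ≤ P) (hPW : P ≤ normalizer (W : Set G))
    (hWc : Nat.card W = p ^ 2) {x : G} (hx : orderOf x = p) (hxW : x ∈ W) (hxc : ∀ u ∈ P, u * x = x * u)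
    {u w : G} (hu : u ∈ P) (hw : w ∈ W) : u * w * u⁻¹ * w⁻¹ ∈ zpowers x := by
  -- work in `P`
  set x' : P := ⟨x, hWP hxW⟩ with hx'
  have hxZ : x' ∈ center P := by
    rw [mem_center_iff]
    intro g
    exact Subtype.ext (hxc g g.2)
  set M : Subgroup P := zpowers x' with hM
  have hMn : M.Normal := by
    refine ⟨fun n hn g => ?_⟩
    have h1 : n ∈ center P := (zpowers_le.2 hxZ) hn
    rw [mem_center_iff] at h1
    rw [h1 g, mul_inv_cancel_right]
    exact hn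
  have hMc : Nat.card M = p := by
    rw [hM, Nat.card_zpowers, hx', Subgroup.orderOf_mk, hx]
  set N : Subgroup P := W.subgroupOf P with hN
  have hNn : N.Normal := by
    refine ⟨fun n hn g => ?_⟩
    rw [mem_subgroupOf] at hn ⊢
    exact (mem_normalizer_iff.1 (hPW g.2) _).1 hn
  have hNc : Nat.card N = p ^ 2 := by
    rw [hN, Nat.card_congr (subgroupOfEquivOfLe hWP).toEquiv, hWc]
  have hMN : M < N := by
    refine lt_of_le_of_ne (zpowers_le.2 hxW) ?_
    intro h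
    rw [h, hNc] at hMc
    have : p ^ 1 < p ^ 2 := Nat.pow_lt_pow_right hp.out.one_lt (by norm_num)
    rw [pow_one] at this
    omega
  obtain ⟨y, hyN, hyM, -, hyc, -, hc⟩ := H23.exists_step hP hMn hNn hMN
  have h1 : M ⊔ zpowers y = N := by
    refine Subgroup.eq_of_le_of_card_ge (sup_le hMN.le (zpowers_le.2 hyN)) ?_
    rw [hc, hMc, hNc, pow_two]
  have hwN : (⟨w, hWP hw⟩ : P) ∈ M ⊔ zpowers y := by rw [h1]; exact hw
  rw [mem_sup_of_normal_left] at hwN
  obtain ⟨m, hm, z, hz, hmz⟩ := hwN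
  obtain ⟨k, rfl⟩ := mem_zpowers_iff.1 hz
  have hmc : m ∈ center P := (zpowers_le.2 hxZ) hm
  -- `y` is central modulo `M`
  have hyq : ∀ g : P, g * y ^ k * g⁻¹ * (y ^ k)⁻¹ ∈ M := by
    intro g
    have h2 : QuotientGroup.mk' M (g * y ^ k * g⁻¹ * (y ^ k)⁻¹) = 1 := by
      have h3 : Commute (QuotientGroup.mk' M y) (QuotientGroup.mk' M g) := by
        have h4 : QuotientGroup.mk' M (y * g * y⁻¹ * g⁻¹) = 1 := (QuotientGroup.eq_one_iff _).2 (hyc g)
        rw [map_mul, map_mul, map_mul, map_inv, map_inv, mul_inv_eq_one, mul_inv_eq_iff_eq_mul] at h4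
        exact h4
      have h5 := (h3.zpow_left k).eq
      rw [map_mul, map_mul, map_mul, map_inv, map_inv, map_zpow, ← h5]
      group
    exact (QuotientGroup.eq_one_iff _).1 h2
  have h6 : (⟨u, hu⟩ : P) * ⟨w, hWP hw⟩ * (⟨u, hu⟩ : P)⁻¹ * (⟨w, hWP hw⟩ : P)⁻¹ ∈ M := by
    rw [← hmz]
    have h7 := (mem_center_iff.1 hmc ⟨u, hu⟩)
    have e : (⟨u, hu⟩ : P) * (m * y ^ k) * (⟨u, hu⟩ : P)⁻¹ * (m * y ^ k)⁻¹ =
        m * ((⟨u, hu⟩ : P) * y ^ k * (⟨u, hu⟩ : P)⁻¹ * (y ^ k)⁻¹) * m⁻¹ := by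
      rw [← mul_assoc (⟨u, hu⟩ : P) m, h7]; group
    rw [e]
    exact hMn.conj_mem _ (hyq _) m
  obtain ⟨j, hj⟩ := mem_zpowers_iff.1 h6
  refine mem_zpowers_iff.2 ⟨j, ?_⟩
  have := congrArg Subtype.val hj
  simpa using this

end Rank

end Cfsg.Agent.H88
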