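import Cfsg.Agent.H88.RankTwo1
import Cfsg.Agent.OddP.Class3
import Cfsg.Agent.OddP.NormalSq
import Cfsg.Agent.S3771

set_option autoImplicit false
set_option maxHeartbeats 400000

/-!
# Rank two `p`-groups with two normal subgroups of type `(p, p)` (helper88)
-/

namespace Cfsg.Agent.H88

open Subgroup Cfsg.Agent.H85
open scoped commutatorElement

variable {G : Type*} [Group G] [Finite G] {p : ℕ} [hp : Fact p.Prime]

theorem form_of_card_sq {W : Subgroup G} (hWe : Cfsg.IsElementaryAbelian p W) (hWc : Nat.card W = p ^ 2) {x a : G}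
    (hx : orderOf x = p) (hxW : x ∈ W) (haW : a ∈ W) (ha : a ∉ zpowers x) {w : G} (hw : w ∈ W) :
    ∃ i j : ℤ, w = x ^ i * a ^ j := by
  have hcomm : ∀ u ∈ W, ∀ v ∈ W, Commute u v := fun u hu v hv =>
    congrArg Subtype.val (hWe.1.is_comm.comm ⟨u, hu⟩ ⟨v, hv⟩)
  have hle : zpowers a ≤ normalizer (zpowers x : Set G) := by
    rw [zpowers_le]
    apply Subgroup.centralizer_le_normalizer
    rw [mem_centralizer_iff]
    intro y hy
    obtain ⟨k, rfl⟩ := mem_zpowers_iff.1 hy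
    exact (hcomm _ (W.zpow_mem hxW k) a haW).eq
  have hsup : zpowers x ⊔ zpowers a = W := by
    refine Subgroup.eq_of_le_of_card_ge (sup_le (zpowers_le.2 hxW) (zpowers_le.2 haW)) ?_
    have hWp : IsPGroup p W := by
      rw [IsPGroup.iff_card]; exact ⟨2, hWc⟩
    have h1 : IsPGroup p ↥(zpowers x ⊔ zpowers a) := hWp.to_le (sup_le (zpowers_le.2 hxW) (zpowers_le.2 haW))
    obtain ⟨k, hk⟩ := IsPGroup.iff_card.1 h1
    rw [hWc, hk]
    apply Nat.pow_le_pow_right hp.out.pos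
    by_contra hlt
    have hk1 : k ≤ 1 := by omega
    have h2 : zpowers x = zpowers x ⊔ zpowers a := by
      refine Subgroup.eq_of_le_of_card_ge le_sup_left ?_
      rw [hk, Nat.card_zpowers, hx]
      calc p ^ k ≤ p ^ 1 := Nat.pow_le_pow_right hp.out.pos hk1
        _ = p := pow_one p
    apply ha
    rw [h2]
    exact (le_sup_right : zpowers a ≤ _) (mem_zpowers a)
  rw [← hsup, mem_sup_iff_of_normalizes hle] at hw
  obtain ⟨y, hy, z, hz, rfl⟩ := hw
  obtain ⟨i, rfl⟩ := mem_zpowers_iff.1 hy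
  obtain ⟨j, rfl⟩ := mem_zpowers_iff.1 hz
  exact ⟨i, j, rfl⟩

theorem zpowers_eq_of_mem {x z : G} (hx : orderOf x = p) (hz : z ∈ zpowers x) (hz1 : z ≠ 1) : zpowers z = zpowers x := by
  refine Subgroup.eq_of_le_of_card_ge (zpowers_le.2 hz) ?_
  have h1 : Nat.card (zpowers z) ∣ Nat.card (zpowers x) := Subgroup.card_dvd_of_le (zpowers_le.2 hz)
  rw [Nat.card_zpowers x, hx] at h1 ⊢
  rcases (Nat.dvd_prime hp.out).1 h1 with h2 | h2
  · rw [Nat.card_zpowers, orderOf_eq_one_iff] at h2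
    exact absurd h2 hz1
  · rw [h2]

/-- two distinct normal subgroups of type `(p, p)` -/
theorem two_normal {P K : Subgroup G} (hp2 : p ≠ 2) (hP : IsPGroup p P)
    (hr : ∀ A : Subgroup G, A ≤ P → Cfsg.IsElementaryAbelian p A → Nat.card A ≤ p ^ 2)
    {W₁ W₂ : Subgroup G} (hW₁P : W₁ ≤ P) (hPW₁ : P ≤ normalizer (W₁ : Set G)) (hW₁ : Cfsg.IsElementaryAbelian p W₁)
    (hW₁c : Nat.card W₁ = p ^ 2) (hW₂P : W₂ ≤ P) (hPW₂ : P ≤ normalizer (W₂ : Set G))
    (hW₂ : Cfsg.IsElementaryAbelian p W₂) (hW₂c : Nat.card W₂ = p ^ 2) (hne : W₁ ≠ W₂) {x : G} (hx : orderOf x = p)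
    (hxP : x ∈ P) (hxc : ∀ u ∈ P, u * x = x * u) (hK : K ≤ normalizer (P : Set G)) (hcop : (Nat.card K).Coprime p)
    (hPK : ⁅P, K⁆ = P) (hKx : ∀ k ∈ K, k * x = x * k) :
    Nat.card P = p ^ 3 ∧ (∀ u ∈ P, u ^ p = 1) ∧ ∃ a ∈ P, ∃ b ∈ P, a * b ≠ b * a := by
  have hxp : x ^ p = 1 := by rw [← hx, pow_orderOf_eq_one]
  have hxW₁ : x ∈ W₁ := mem_of_rank hr hW₁P hW₁ hW₁c hxP hxp (fun e he => hxc e (hW₁P he))
  have hxW₂ : x ∈ W₂ := mem_of_rank hr hW₂P hW₂ hW₂c hxP hxp (fun e he => hxc e (hW₂P he))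
  obtain ⟨a, haW₁, haW₂⟩ : ∃ a ∈ W₁, a ∉ W₂ := by
    by_contra hcon
    push Not at hcon
    exact hne (Subgroup.eq_of_le_of_card_ge hcon (by rw [hW₁c, hW₂c]))
  obtain ⟨b, hbW₂, hbW₁⟩ : ∃ b ∈ W₂, b ∉ W₁ := by
    by_contra hcon
    push Not at hcon
    exact hne (Subgroup.eq_of_le_of_card_ge hcon (by rw [hW₁c, hW₂c])).symm
  have hax : a ∉ zpowers x := fun h => haW₂ ((zpowers_le.2 hxW₂) h)
  have hbx : b ∉ zpowers x := fun h => hbW₁ ((zpowers_le.2 hxW₁) h)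
  have haP := hW₁P haW₁
  have hbP := hW₂P hbW₂
  have hcomm₁ : ∀ u ∈ W₁, ∀ v ∈ W₁, Commute u v := fun u hu v hv =>
    congrArg Subtype.val (hW₁.1.is_comm.comm ⟨u, hu⟩ ⟨v, hv⟩)
  -- `a`, `b` do not commute
  have hab : a * b ≠ b * a := by
    intro h
    apply hbW₁
    refine mem_of_rank hr hW₁P hW₁ hW₁c hbP (hW₂.2 b hbW₂) fun e he => ?_
    obtain ⟨i, j, rfl⟩ := form_of_card_sq hW₁ hW₁c hx hxW₁ haW₁ hax he
    have c1 : Commute x b := (hxc b hbP).symm
    have c2 : Commute a b := h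
    exact ((c1.zpow_left i).mul_left (c2.zpow_left j)).eq
  set z := a * b * a⁻¹ * b⁻¹ with hz
  have hzx : z ∈ zpowers x := comm_mem_zpowers hP hW₂P hPW₂ hW₂c hx hxW₂ hxc haP hbW₂
  have hz1 : z ≠ 1 := by
    intro h
    apply hab
    rw [hz, mul_inv_eq_one, mul_inv_eq_iff_eq_mul] at h
    exact h
  have hzz : zpowers z = zpowers x := zpowers_eq_of_mem hx hzx hz1
  have hzc : ∀ u ∈ P, Commute u z := by
    intro u hu
    obtain ⟨k, hk⟩ := mem_zpowers_iff.1 hzx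
    have : Commute u x := hxc u hu
    rw [← hk]
    exact this.zpow_right k
  have hKz : ∀ k ∈ K, Commute k z := by
    intro u hu
    obtain ⟨k, hk⟩ := mem_zpowers_iff.1 hzx
    have : Commute u x := hKx u hu
    rw [← hk]
    exact this.zpow_right k
  have hzP : z ∈ P := (zpowers_le.2 hxP) hzx
  have hzp : z ^ p = 1 := hW₁.2 z ((zpowers_le.2 hxW₁) hzx)
  -- conjugation formulas
  have e1 : a * b * a⁻¹ = z * b := by rw [hz]; group
  have e2 : b * a * b⁻¹ = z⁻¹ * a := by rw [hz]; group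
  have ca : Commute a z := hzc a haP
  have cb : Commute b z := hzc b hbP
  have e1r : ∀ r : ℤ, a ^ r * b * (a ^ r)⁻¹ = z ^ r * b := by
    intro r
    have h1 : a * (b * a⁻¹ * b⁻¹) = z := by rw [hz]; group
    have h2 : Commute a (b * a⁻¹ * b⁻¹) := by
      have : b * a⁻¹ * b⁻¹ = a⁻¹ * z := by rw [← h1]; group
      rw [this]
      exact (Commute.refl a).inv_right.mul_right ca
    have h3 : a ^ r * (b * a⁻¹ * b⁻¹) ^ r = z ^ r := by rw [← h2.mul_zpow, h1]
    rw [conj_zpow] at h3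
    rw [← h3]
    rw [inv_zpow]
    group
  have e2s : ∀ s : ℤ, b ^ s * a * (b ^ s)⁻¹ = z ^ (-s) * a := by
    intro s
    have h1 : b * (a * b⁻¹ * a⁻¹) = z⁻¹ := by rw [hz]; group
    have h2 : Commute b (a * b⁻¹ * a⁻¹) := by
      have : a * b⁻¹ * a⁻¹ = b⁻¹ * z⁻¹ := by rw [← h1]; group
      rw [this]
      exact (Commute.refl b).inv_right.mul_right cb.inv_right
    have h3 : b ^ s * (a * b⁻¹ * a⁻¹) ^ s = z⁻¹ ^ s := by rw [← h2.mul_zpow, h1]
    rw [conj_zpow] at h3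
    rw [zpow_neg, ← inv_zpow z s, ← h3, inv_zpow]
    group
  -- decomposition
  have hdec : ∀ u ∈ P, ∃ r s : ℤ, (a ^ r * b ^ s)⁻¹ * u ∈ centralizer ({x, a, b} : Set G) := by
    intro u hu
    have h1 : u * a * u⁻¹ * a⁻¹ ∈ zpowers z := by
      rw [hzz]; exact comm_mem_zpowers hP hW₁P hPW₁ hW₁c hx hxW₁ hxc hu haW₁
    have h2 : u * b * u⁻¹ * b⁻¹ ∈ zpowers z := by
      rw [hzz]; exact comm_mem_zpowers hP hW₂P hPW₂ hW₂c hx hxW₂ hxc hu hbW₂
    obtain ⟨i, hi⟩ := mem_zpowers_iff.1 h1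
    obtain ⟨j, hj⟩ := mem_zpowers_iff.1 h2
    refine ⟨j, -i, ?_⟩
    set c := a ^ j * b ^ (-i) with hc
    have hca : c * a * c⁻¹ = u * a * u⁻¹ := by
      have h3 := e2s (-i)
      rw [neg_neg] at h3
      have h4 : c * a * c⁻¹ = a ^ j * (b ^ (-i) * a * (b ^ (-i))⁻¹) * (a ^ j)⁻¹ := by rw [hc]; group
      rw [h4, h3]
      have c3 : Commute (a ^ j) (z ^ i * a) := ((ca.zpow_left j).zpow_right i).mul_right ((Commute.refl a).zpow_left j)
      rw [c3.eq, mul_inv_cancel_right, hi]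
      group
    have hcb : c * b * c⁻¹ = u * b * u⁻¹ := by
      have h4 : c * b * c⁻¹ = a ^ j * b * (a ^ j)⁻¹ := by rw [hc]; group
      rw [h4, e1r, hj]
      group
    have hcP : c ∈ P := P.mul_mem (P.zpow_mem haP _) (P.zpow_mem hbP _)
    rw [mem_centralizer_iff]
    intro y hy
    simp only [Set.mem_insert_iff, Set.mem_singleton_iff] at hy
    have key : ∀ y, c * y * c⁻¹ = u * y * u⁻¹ → y * (c⁻¹ * u) = c⁻¹ * u * y := by
      intro y hy
      calc y * (c⁻¹ * u) = c⁻¹ * (c * y * c⁻¹) * u := by group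
        _ = c⁻¹ * (u * y * u⁻¹) * u := by rw [hy]
        _ = c⁻¹ * u * y := by group
    rcases hy with rfl | rfl | rfl
    · apply key
      rw [hxc c hcP, mul_inv_cancel_right, hxc u hu, mul_inv_cancel_right]
    · exact key _ hca
    · exact key _ hcb
  -- the subgroup `D`
  set D : Subgroup G := closure ({x, a, b} : Set G) with hD
  have hxD : x ∈ D := subset_closure (Or.inl rfl)
  have haD : a ∈ D := subset_closure (Or.inr (Or.inl rfl))
  have hbD : b ∈ D := subset_closure (Or.inr (Or.inr rfl))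
  have hDP : D ≤ P := by
    rw [hD, closure_le]
    intro y hy
    simp only [Set.mem_insert_iff, Set.mem_singleton_iff] at hy
    rcases hy with rfl | rfl | rfl
    · exact hxP
    · exact haP
    · exact hbP
  have hcD : centralizer ({x, a, b} : Set G) = centralizer (D : Set G) := by
    rw [hD, Subgroup.centralizer_closure]
  -- exponent `p`
  have hDform : ∀ d ∈ D, ∃ i r s : ℤ, d = x ^ i * (a ^ r * b ^ s) := by
    intro d hd
    rw [hD] at hd
    induction hd using closure_induction with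
    | mem y hy =>
      simp only [Set.mem_insert_iff, Set.mem_singleton_iff] at hy
      rcases hy with rfl | rfl | rfl
      · exact ⟨1, 0, 0, by simp⟩
      · exact ⟨0, 1, 0, by simp⟩
      · exact ⟨0, 0, 1, by simp⟩
    | one => exact ⟨0, 0, 0, by simp⟩
    | mul u v hu hv h1 h2 =>
      obtain ⟨i, r, s, rfl⟩ := h1
      obtain ⟨i', r', s', rfl⟩ := h2
      obtain ⟨m, hm⟩ := mem_zpowers_iff.1 hzx
      -- `b ^ s * a ^ r' = z ^ (-s * r') * a ^ r' * b ^ s`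
      have h3 : b ^ s * a ^ r' = z ^ (-s * r') * a ^ r' * b ^ s := by
        have h4 : b ^ s * a ^ r' * (b ^ s)⁻¹ = (z ^ (-s) * a) ^ r' := by rw [← conj_zpow, e2s]
        have h5 : Commute (z ^ (-s)) a := (ca.symm.zpow_left _)
        rw [h5.mul_zpow, ← zpow_mul] at h4
        rw [← h4]; group
      have cx : ∀ u ∈ P, Commute x u := fun u hu => (hxc u hu).symm
      refine ⟨i + i' + m * (-s * r'), r + r', s + s', ?_⟩
      have h6 : z ^ (-s * r') = x ^ (m * (-s * r')) := by rw [← hm, ← zpow_mul]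
      have hA : a ^ r * b ^ s ∈ P := P.mul_mem (P.zpow_mem haP _) (P.zpow_mem hbP _)
      have h7 : x ^ i * (a ^ r * b ^ s) * (x ^ i' * (a ^ r' * b ^ s')) =
          x ^ i * x ^ i' * (a ^ r * (b ^ s * a ^ r') * b ^ s') := by
        have c1 : Commute (x ^ i') (a ^ r * b ^ s) := (cx _ hA).zpow_left i'
        calc x ^ i * (a ^ r * b ^ s) * (x ^ i' * (a ^ r' * b ^ s')) =
            x ^ i * ((a ^ r * b ^ s) * x ^ i') * (a ^ r' * b ^ s') := by group
          _ = x ^ i * (x ^ i' * (a ^ r * b ^ s)) * (a ^ r' * b ^ s') := by rw [c1.eq]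
          _ = _ := by group
      rw [h7, h3, h6]
      have c2 : Commute (a ^ r) (x ^ (m * (-s * r'))) := ((cx a haP).zpow_left _).symm.zpow_left r
      calc x ^ i * x ^ i' * (a ^ r * (x ^ (m * (-s * r')) * a ^ r' * b ^ s) * b ^ s') =
          x ^ i * x ^ i' * ((a ^ r * x ^ (m * (-s * r'))) * a ^ r' * b ^ s * b ^ s') := by group
        _ = x ^ i * x ^ i' * ((x ^ (m * (-s * r')) * a ^ r) * a ^ r' * b ^ s * b ^ s') := by rw [c2.eq]
        _ = _ := by simp only [zpow_add, mul_assoc]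
    | inv u hu h1 =>
      obtain ⟨i, r, s, rfl⟩ := h1
      obtain ⟨m, hm⟩ := mem_zpowers_iff.1 hzx
      have cx : ∀ u ∈ P, Commute x u := fun u hu => (hxc u hu).symm
      have h3 : b ^ (-s) * a ^ (-r) = z ^ (- -s * -r) * a ^ (-r) * b ^ (-s) := by
        have h4 : b ^ (-s) * a ^ (-r) * (b ^ (-s))⁻¹ = (z ^ (- -s) * a) ^ (-r) := by rw [← conj_zpow, e2s]
        have h5 : Commute (z ^ (- -s)) a := (ca.symm.zpow_left _)
        rw [h5.mul_zpow, ← zpow_mul] at h4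
        rw [← h4]; group
      refine ⟨-i + m * (- -s * -r), -r, -s, ?_⟩
      have h6 : z ^ (- -s * -r) = x ^ (m * (- -s * -r)) := by rw [← hm, ← zpow_mul]
      have hA : b ^ (-s) * a ^ (-r) ∈ P := P.mul_mem (P.zpow_mem hbP _) (P.zpow_mem haP _)
      have c1 : Commute (x ^ (-i)) (b ^ (-s) * a ^ (-r)) := (cx _ hA).zpow_left _
      calc (x ^ i * (a ^ r * b ^ s))⁻¹ = (b ^ (-s) * a ^ (-r)) * x ^ (-i) := by group
        _ = x ^ (-i) * (b ^ (-s) * a ^ (-r)) := c1.eq.symm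
        _ = x ^ (-i) * (x ^ (m * (- -s * -r)) * a ^ (-r) * b ^ (-s)) := by rw [h3, h6]
        _ = _ := by simp only [zpow_add, mul_assoc]
  have hDexp : ∀ d ∈ D, d ^ p = 1 := by
    intro d hd
    obtain ⟨i, r, s, rfl⟩ := hDform d hd
    have hA : a ^ r * b ^ s ∈ P := P.mul_mem (P.zpow_mem haP _) (P.zpow_mem hbP _)
    have c1 : Commute (x ^ i) (a ^ r * b ^ s) := by
      have : Commute x (a ^ r * b ^ s) := (hxc _ hA).symm
      exact this.zpow_left i
    rw [c1.mul_pow]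
    have h3 : b ^ s * a ^ r = a ^ r * b ^ s * z ^ (-s * r) := by
      have h4 : b ^ s * a ^ r * (b ^ s)⁻¹ = (z ^ (-s) * a) ^ r := by rw [← conj_zpow, e2s]
      have h5 : Commute (z ^ (-s)) a := (ca.symm.zpow_left _)
      rw [h5.mul_zpow, ← zpow_mul] at h4
      have h6 : b ^ s * a ^ r = z ^ (-s * r) * a ^ r * b ^ s := by rw [← h4]; group
      rw [h6]
      have c2 : Commute (z ^ (-s * r)) (a ^ r * b ^ s) := ((hzc _ hA).symm.zpow_left _)
      rw [← c2.eq]; group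
    rw [OddP.mul_pow_p_class2 hp.out hp2 h3 ((ca.symm.zpow_left _).zpow_right r) ((cb.symm.zpow_left _).zpow_right s)
      (by rw [← zpow_natCast, ← zpow_mul, mul_comm, zpow_mul, zpow_natCast, hzp, one_zpow])]
    have k1 : (x ^ i) ^ p = 1 := by rw [← zpow_natCast, ← zpow_mul, mul_comm, zpow_mul, zpow_natCast, hxp, one_zpow]
    have k2 : (a ^ r) ^ p = 1 := by
      rw [← zpow_natCast, ← zpow_mul, mul_comm, zpow_mul, zpow_natCast, hW₁.2 a haW₁, one_zpow]
    have k3 : (b ^ s) ^ p = 1 := by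
      rw [← zpow_natCast, ← zpow_mul, mul_comm, zpow_mul, zpow_natCast, hW₂.2 b hbW₂, one_zpow]
    rw [k1, k2, k3, one_mul, one_mul]
  -- elements of order `p` of the centralizer
  have hW12 : W₁ ⊓ W₂ = zpowers x := by
    refine (Subgroup.eq_of_le_of_card_ge (le_inf (zpowers_le.2 hxW₁) (zpowers_le.2 hxW₂)) ?_).symm
    have hWp : IsPGroup p W₁ := hP.to_le hW₁P
    have h1 : IsPGroup p ↥(W₁ ⊓ W₂) := hWp.to_le inf_le_left
    obtain ⟨k, hk⟩ := IsPGroup.iff_card.1 h1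
    rw [Nat.card_zpowers, hx, hk]
    have hk1 : k ≤ 1 := by
      by_contra hcon
      have h2 : W₁ ⊓ W₂ = W₁ := by
        refine Subgroup.eq_of_le_of_card_ge inf_le_left ?_
        rw [hW₁c, hk]
        exact Nat.pow_le_pow_right hp.out.pos (by omega)
      apply haW₂
      have h3 : a ∈ W₁ ⊓ W₂ := by rw [h2]; exact haW₁
      exact h3.2
    calc p ^ k ≤ p ^ 1 := Nat.pow_le_pow_right hp.out.pos hk1
      _ = p := pow_one p
  have hZx : ∀ c ∈ P, c ∈ centralizer (D : Set G) → c ^ p = 1 → c ∈ zpowers x := by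
    intro c hcP hcD' hcp
    rw [mem_centralizer_iff] at hcD'
    rw [← hW12]
    refine ⟨?_, ?_⟩
    · refine mem_of_rank hr hW₁P hW₁ hW₁c hcP hcp fun e he => ?_
      obtain ⟨i, j, rfl⟩ := form_of_card_sq hW₁ hW₁c hx hxW₁ haW₁ hax he
      exact hcD' _ (D.mul_mem (D.zpow_mem hxD i) (D.zpow_mem haD j))
    · refine mem_of_rank hr hW₂P hW₂ hW₂c hcP hcp fun e he => ?_
      obtain ⟨i, j, rfl⟩ := form_of_card_sq hW₂ hW₂c hx hxW₂ hbW₂ hbx he
      exact hcD' _ (D.mul_mem (D.zpow_mem hxD i) (D.zpow_mem hbD j))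
  have hDec : ∀ u ∈ P, ∃ c ∈ D, ∃ v ∈ P, v ∈ centralizer (D : Set G) ∧ u = c * v := by
    intro u hu
    obtain ⟨r, s, h1⟩ := hdec u hu
    rw [hcD] at h1
    have hcD1 : a ^ r * b ^ s ∈ D := D.mul_mem (D.zpow_mem haD _) (D.zpow_mem hbD _)
    exact ⟨_, hcD1, _, P.mul_mem (P.inv_mem (hDP hcD1)) hu, h1, by group⟩
  have hDchar : ∀ u ∈ P, u ^ p = 1 → u ∈ D := by
    intro u hu hup
    obtain ⟨c, hc, v, hv, hvD, rfl⟩ := hDec u hu
    have c1 : Commute c v := mem_centralizer_iff.1 hvD c hc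
    rw [c1.mul_pow, hDexp c hc, one_mul] at hup
    exact D.mul_mem hc ((zpowers_le.2 hxD) (hZx v hv hvD hup))
  have hKD : ∀ k ∈ K, ∀ d ∈ D, k * d * k⁻¹ ∈ D := by
    intro k hk d hd
    apply hDchar _ ((mem_normalizer_iff.1 (hK hk) d).1 (hDP hd))
    rw [conj_pow, hDexp d hd, mul_one, mul_inv_cancel]
  set Z : Subgroup G := P ⊓ centralizer (D : Set G) with hZ
  have hKZ : ∀ k ∈ K, ∀ v ∈ Z, k * v * k⁻¹ ∈ Z := by
    intro k hk v hv
    refine mem_inf.2 ⟨(mem_normalizer_iff.1 (hK hk) v).1 hv.1, mem_centralizer_iff.2 ?_⟩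
    intro d hd
    have h1 := hKD k⁻¹ (K.inv_mem hk) d hd
    rw [inv_inv] at h1
    have h2 := mem_centralizer_iff.1 hv.2 _ h1
    calc d * (k * v * k⁻¹) = k * ((k⁻¹ * d * k) * v) * k⁻¹ := by group
      _ = k * (v * (k⁻¹ * d * k)) * k⁻¹ := by rw [h2]
      _ = k * v * k⁻¹ * d := by group
  have hKZn : K ≤ normalizer (Z : Set G) := by
    intro k hk
    rw [mem_normalizer_iff]
    intro v
    refine ⟨hKZ k hk v, fun h1 => ?_⟩
    have h2 := hKZ k⁻¹ (K.inv_mem hk) _ h1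
    have h3 : k⁻¹ * (k * v * k⁻¹) * k⁻¹⁻¹ = v := by group
    rwa [h3] at h2
  have hKZc := BG.le_centralizer_of_omega1 hp2 K hcop _ Z rfl (hP.to_le inf_le_left) hKZn (by
    intro v hv hvp k hk
    obtain ⟨j, rfl⟩ := mem_zpowers_iff.1 (hZx v hv.1 hv.2 hvp)
    have : Commute k x := hKx k hk
    exact (this.zpow_right j).eq)
  have hPD : P ≤ D := by
    rw [← hPK, commutator_le]
    intro u hu k hk
    obtain ⟨c, hc, v, hv, hvD, rfl⟩ := hDec u hu
    have h1 := mem_centralizer_iff.1 (hKZc hk) v ⟨hv, hvD⟩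
    have h2 : ⁅c * v, k⁆ = c * (k * c⁻¹ * k⁻¹) := by
      rw [commutatorElement_def]
      calc c * v * k * (c * v)⁻¹ * k⁻¹ = c * (v * k) * v⁻¹ * c⁻¹ * k⁻¹ := by group
        _ = c * (k * v) * v⁻¹ * c⁻¹ * k⁻¹ := by rw [h1]
        _ = c * (k * c⁻¹ * k⁻¹) := by group
    rw [h2]
    exact D.mul_mem hc (hKD k hk _ (D.inv_mem hc))
  have hPexp : ∀ u ∈ P, u ^ p = 1 := fun u hu => hDexp u (hPD hu)
  refine ⟨?_, hPexp, a, haP, b, hbP, hab⟩
  apply le_antisymm
  · apply S3771.result hP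
    · intro A hA hAe
      have h1 := hr (A.map P.subtype) (map_subtype_le _) ⟨?_, ?_⟩
      · rwa [card_map_of_injective P.subtype_injective] at h1
      · refine ⟨⟨?_⟩⟩
        rintro ⟨_, y, hy, rfl⟩ ⟨_, y', hy', rfl⟩
        have := congrArg Subtype.val (hA.is_comm.comm ⟨y, hy⟩ ⟨y', hy'⟩)
        refine Subtype.ext ?_
        exact congrArg (fun z : P => (z : G)) this
      · rintro _ ⟨y, hy, rfl⟩
        exact congrArg Subtype.val (hAe y hy)
    · intro u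
      exact Subtype.ext (hPexp u u.2)
  · obtain ⟨k, hk⟩ := IsPGroup.iff_card.1 hP
    rw [hk]
    apply Nat.pow_le_pow_right hp.out.pos
    by_contra hcon
    have h1 : W₁ = P := by
      refine Subgroup.eq_of_le_of_card_ge hW₁P ?_
      rw [hk, hW₁c]
      exact Nat.pow_le_pow_right hp.out.pos (by omega)
    exact hbW₁ (by rw [h1]; exact hbP)

end Cfsg.Agent.H88
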