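import Cfsg.Agent.H88.RankTwo2
import Cfsg.Agent.S1447

set_option autoImplicit false
set_option maxHeartbeats 400000

/-!
# Rank two `p`-groups with a unique normal subgroup of type `(p, p)` (helper88)
-/

namespace Cfsg.Agent.H88

open Subgroup Cfsg.Agent.H85
open scoped commutatorElement

universe u

theorem metacyclic_of {G : Type u} [Group G] [Finite G] {p : ℕ} [hp : Fact p.Prime] (hp2 : p ≠ 2)
    {T W : Subgroup G} (hT : IsPGroup p T) (hWT : W ≤ T) (hWc : Nat.card W = p ^ 2)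
    (hWe : ∀ w ∈ W, w ^ p = 1)
    (hord : ∀ t ∈ T, t ^ p = 1 → t ∈ W) (hcen : ∀ w ∈ W, ∀ t ∈ T, t * w = w * t) : Cfsg.IsMetacyclic ↥T := by
  have hpc : BG.PCentral p T := by
    intro x hx
    rw [mem_center_iff]
    intro g
    exact Subtype.ext (hcen x (hord x x.2 (congrArg Subtype.val hx)) g g.2)
  apply H65.isMetacyclic_of_index_le hp2 hT
  refine (hpc.index_closure_pow_le hp2 hT).trans ?_
  have h1 : BG.omegaZ p T = W.subgroupOf T := by
    ext c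
    rw [hpc.mem_omegaZ_iff, mem_subgroupOf]
    constructor
    · intro hc
      exact hord c c.2 (congrArg Subtype.val hc)
    · intro hc
      exact Subtype.ext (hWe c hc)
  rw [h1, Nat.card_congr (subgroupOfEquivOfLe hWT).toEquiv, hWc]

/-- the standing hypotheses -/
structure Ctx (p : ℕ) {G : Type u} [Group G] (P K W : Subgroup G) (x : G) : Prop where
  hp2 : p ≠ 2
  hP : IsPGroup p P
  hK : K ≤ normalizer (P : Set G)
  hcop : (Nat.card K).Coprime p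
  hPK : ⁅P, K⁆ = P
  hr : ∀ A : Subgroup G, A ≤ P → Cfsg.IsElementaryAbelian p A → Nat.card A ≤ p ^ 2
  hx : orderOf x = p
  hxP : x ∈ P
  hxc : ∀ u ∈ P, u * x = x * u
  hKx : ∀ k ∈ K, k * x = x * k
  hWP : W ≤ P
  hPW : P ≤ normalizer (W : Set G)
  hKW : K ≤ normalizer (W : Set G)
  hW : Cfsg.IsElementaryAbelian p W
  hWc : Nat.card W = p ^ 2

namespace Ctx

variable {G : Type u} [Group G] [Finite G] {p : ℕ} [hp : Fact p.Prime] {P K W : Subgroup G} {x : G}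

theorem hxp (h : Ctx p P K W x) : x ^ p = 1 := by rw [← h.hx, pow_orderOf_eq_one]

theorem hxW (h : Ctx p P K W x) : x ∈ W :=
  mem_of_rank h.hr h.hWP h.hW h.hWc h.hxP h.hxp fun e he => h.hxc e (h.hWP he)

theorem x_ne (h : Ctx p P K W x) : x ≠ 1 := by
  intro h0
  have := h.hx
  rw [h0, orderOf_one] at this
  exact hp.out.one_lt.ne this

theorem commW (h : Ctx p P K W x) : ∀ u ∈ W, ∀ v ∈ W, Commute u v := fun u hu v hv =>
  congrArg Subtype.val (h.hW.1.is_comm.comm ⟨u, hu⟩ ⟨v, hv⟩)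

/-- `P` centralizes `W`: impossible -/
theorem not_le (h : Ctx p P K W x) : ¬ P ≤ centralizer (W : Set G) := by
  intro hc
  have hcen : ∀ w ∈ W, ∀ t ∈ P, t * w = w * t := fun w hw t ht => (mem_centralizer_iff.1 (hc ht) w hw).symm
  have hm := metacyclic_of h.hp2 h.hP h.hWP h.hWc h.hW.2
    (fun t ht htp => mem_of_rank h.hr h.hWP h.hW h.hWc ht htp fun e he => (hcen e he t ht).symm) hcen
  have h1 := (S1447.result p h.hp2 P K h.hP hm h.hK h.hcop).2.2.1
  have h2 : x ∈ ⁅P, K⁆ ⊓ (P ⊓ centralizer (K : Set G)) := by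
    rw [h.hPK]
    exact mem_inf.2 ⟨h.hxP, mem_inf.2 ⟨h.hxP, mem_centralizer_iff.2 fun k hk => h.hKx k hk⟩⟩
  rw [h1, mem_bot] at h2
  exact h.x_ne h2

/-- the centralizer of `W` in `P` -/
def T (P W : Subgroup G) : Subgroup G := P ⊓ centralizer (W : Set G)

omit [Finite G] in
theorem mem_T {u : G} : u ∈ T P W ↔ u ∈ P ∧ ∀ w ∈ W, w * u = u * w := by
  rw [T, mem_inf, mem_centralizer_iff]
  rfl

omit [Finite G] in
theorem T_le : T P W ≤ P := inf_le_left

theorem W_le (h : Ctx p P K W x) : W ≤ T P W := fun w hw => mem_T.2 ⟨h.hWP hw, fun v hv => (h.commW v hv w hw).eq⟩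

theorem ord_T (h : Ctx p P K W x) {u : G} (hu : u ∈ T P W) (hup : u ^ p = 1) : u ∈ W :=
  mem_of_rank h.hr h.hWP h.hW h.hWc (mem_T.1 hu).1 hup (mem_T.1 hu).2

theorem isPT (h : Ctx p P K W x) : IsPGroup p ↥(T P W) := h.hP.to_le T_le

theorem meta_T (h : Ctx p P K W x) : Cfsg.IsMetacyclic ↥(T P W) :=
  metacyclic_of h.hp2 h.isPT h.W_le h.hWc h.hW.2 (fun _ ht htp => h.ord_T ht htp)
    fun w hw t ht => ((mem_T.1 ht).2 w hw).symm

omit [Finite G] hp in
theorem conj_W (h : Ctx p P K W x) {g : G} (hg : g ∈ P ∨ g ∈ K) {w : G} (hw : w ∈ W) : g * w * g⁻¹ ∈ W := by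
  rcases hg with hg | hg
  · exact (mem_normalizer_iff.1 (h.hPW hg) w).1 hw
  · exact (mem_normalizer_iff.1 (h.hKW hg) w).1 hw

omit [Finite G] hp in
theorem conj_P (h : Ctx p P K W x) {g : G} (hg : g ∈ P ∨ g ∈ K) {w : G} (hw : w ∈ P) : g * w * g⁻¹ ∈ P := by
  rcases hg with hg | hg
  · exact P.mul_mem (P.mul_mem hg hw) (P.inv_mem hg)
  · exact (mem_normalizer_iff.1 (h.hK hg) w).1 hw

omit [Finite G] hp in
theorem conj_T (h : Ctx p P K W x) {g : G} (hg : g ∈ P ∨ g ∈ K) {u : G} (hu : u ∈ T P W) : g * u * g⁻¹ ∈ T P W := by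
  rw [mem_T] at hu ⊢
  refine ⟨h.conj_P hg hu.1, fun w hw => ?_⟩
  have hg' : g⁻¹ ∈ P ∨ g⁻¹ ∈ K := hg.imp (P.inv_mem) (K.inv_mem)
  have h1 := h.conj_W hg' hw
  rw [inv_inv] at h1
  have h2 := hu.2 _ h1
  calc w * (g * u * g⁻¹) = g * ((g⁻¹ * w * g) * u) * g⁻¹ := by group
    _ = g * (u * (g⁻¹ * w * g)) * g⁻¹ := by rw [h2]
    _ = g * u * g⁻¹ * w := by group

omit [Finite G] hp in
theorem K_norm_T (h : Ctx p P K W x) : K ≤ normalizer (T P W : Set G) := by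
  intro k hk
  rw [mem_normalizer_iff]
  intro v
  refine ⟨fun hv => h.conj_T (Or.inr hk) hv, fun h1 => ?_⟩
  have h2 := h.conj_T (Or.inr (K.inv_mem hk)) h1
  have h3 : k⁻¹ * (k * v * k⁻¹) * k⁻¹⁻¹ = v := by group
  rwa [h3] at h2

omit [Finite G] hp in
theorem P_norm_T (h : Ctx p P K W x) : P ≤ normalizer (T P W : Set G) := by
  intro k hk
  rw [mem_normalizer_iff]
  intro v
  refine ⟨fun hv => h.conj_T (Or.inl hk) hv, fun h1 => ?_⟩
  have h2 := h.conj_T (Or.inl (P.inv_mem hk)) h1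
  have h3 : k⁻¹ * (k * v * k⁻¹) * k⁻¹⁻¹ = v := by group
  rwa [h3] at h2

/-- if `k` centralizes `W`, then `[u, k] ∈ T` -/
theorem comm_T (h : Ctx p P K W x) {k : G} (hk : k ∈ K) (hkW : ∀ w ∈ W, k * w * k⁻¹ = w) {u : G} (hu : u ∈ P) :
    u⁻¹ * (k * u * k⁻¹) ∈ T P W := by
  rw [mem_T]
  refine ⟨P.mul_mem (P.inv_mem hu) (h.conj_P (Or.inr hk) hu), fun w hw => ?_⟩
  have h1 : k * (u * w * u⁻¹) * k⁻¹ = u * w * u⁻¹ := hkW _ (h.conj_W (Or.inl hu) hw)
  have h2 : k * w * k⁻¹ = w := hkW w hw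
  have h3 : (k * u * k⁻¹) * w * (k * u * k⁻¹)⁻¹ = u * w * u⁻¹ := by
    calc (k * u * k⁻¹) * w * (k * u * k⁻¹)⁻¹ = (k * u * k⁻¹) * (k * w * k⁻¹) * (k * u * k⁻¹)⁻¹ := by rw [h2]
      _ = k * (u * w * u⁻¹) * k⁻¹ := by group
      _ = _ := h1
  calc w * (u⁻¹ * (k * u * k⁻¹)) = u⁻¹ * (u * w * u⁻¹) * (k * u * k⁻¹) := by group
    _ = u⁻¹ * ((k * u * k⁻¹) * w * (k * u * k⁻¹)⁻¹) * (k * u * k⁻¹) := by rw [h3]
    _ = _ := by group

theorem exists_k (h : Ctx p P K W x) : ∃ k ∈ K, ∃ w ∈ W, k * w * k⁻¹ ≠ w := by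
  by_contra hcon
  push Not at hcon
  apply h.not_le
  have h1 : P ≤ T P W := by
    conv_lhs => rw [← h.hPK]
    rw [commutator_le]
    intro u hu k hk
    have h2 := h.comm_T hk (hcon k hk) (P.inv_mem hu)
    rw [inv_inv] at h2
    have h3 : ⁅u, k⁆ = u * (k * u⁻¹ * k⁻¹) := by rw [commutatorElement_def]; group
    rw [h3]; exact h2
  exact h1.trans inf_le_right

theorem exists_y (h : Ctx p P K W x) : ∃ y ∈ P, y ∉ T P W := by
  by_contra hcon
  push Not at hcon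
  exact h.not_le (le_trans (fun u hu => hcon u hu) inf_le_right)

theorem mem_of_comm (h : Ctx p P K W x) {y : G} (hy : y ∈ P) {w : G} (hw : w ∈ W) (hwx : w ∉ zpowers x)
    (hyw : y * w = w * y) : y ∈ T P W := by
  rw [mem_T]
  refine ⟨hy, fun v hv => ?_⟩
  obtain ⟨i, j, rfl⟩ := form_of_card_sq h.hW h.hWc h.hx h.hxW hw hwx hv
  have c1 : Commute x y := (h.hxc y hy).symm
  have c2 : Commute w y := hyw.symm
  exact ((c1.zpow_left i).mul_left (c2.zpow_left j)).eq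

theorem facts (h : Ctx p P K W x) : IsMulCommutative ↥⁅T P W, K⁆ ∧
    ⁅T P W, K⁆ ⊔ (T P W ⊓ centralizer (K : Set G)) = T P W ∧
    ⁅T P W, K⁆ ⊓ (T P W ⊓ centralizer (K : Set G)) = ⊥ ∧
    (¬ IsMulCommutative ↥(T P W) → ¬ K ≤ centralizer (T P W : Set G) →
      ⁅T P W, K⁆ ≠ ⊥ ∧ IsCyclic ↥⁅T P W, K⁆ ∧ (T P W ⊓ centralizer (K : Set G)) ≠ ⊥ ∧
      IsCyclic ↥(T P W ⊓ centralizer (K : Set G)) ∧ ⁅T P W, T P W⁆ ≤ ⁅T P W, K⁆) :=
  S1447.result p h.hp2 (T P W) K h.isPT h.meta_T h.K_norm_T h.hcop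

theorem not_cent (h : Ctx p P K W x) : ¬ K ≤ centralizer (T P W : Set G) := by
  intro h1
  obtain ⟨k, hk, w, hw, hkw⟩ := h.exists_k
  apply hkw
  have h2 := mem_centralizer_iff.1 (h1 hk) w (h.W_le hw)
  rw [← h2]; group

theorem commute_T (h : Ctx p P K W x) : ∀ u ∈ T P W, ∀ v ∈ T P W, Commute u v := by
  by_contra hcon
  have hna : ¬ IsMulCommutative (T P W) := by
    intro hab
    apply hcon
    intro u hu v hv
    exact congrArg Subtype.val (hab.is_comm.comm ⟨u, hu⟩ ⟨v, hv⟩)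
  obtain ⟨h1, h2, h3, h4⟩ := h.facts
  obtain ⟨-, -, -, -, h5⟩ := h4 hna h.not_cent
  -- the derived subgroup of `T` as a subgroup of `P`
  set T' : Subgroup G := ⁅T P W, T P W⁆ with hT'
  have hT'T : T' ≤ T P W := commutator_le_self _
  have hT'1 : T' ≠ ⊥ := by
    intro h0
    rw [hT', commutator_eq_bot_iff_le_centralizer] at h0
    apply hna
    refine ⟨⟨fun a b => Subtype.ext ?_⟩⟩
    exact (mem_centralizer_iff.1 (h0 a.2) b b.2).symm
  have hPT' : P ≤ normalizer (T' : Set G) := by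
    intro g hg
    have h6 := h.P_norm_T hg
    rw [hT', mem_normalizer_iff']
    have hgT : (T P W).map (MulAut.conj g).toMonoidHom = T P W := by
      ext z
      constructor
      · rintro ⟨y, hy, rfl⟩
        exact h.conj_T (Or.inl hg) hy
      · intro hz
        refine ⟨g⁻¹ * z * g, ?_, ?_⟩
        · have := h.conj_T (Or.inl (P.inv_mem hg)) hz
          rwa [inv_inv] at this
        · show g * (g⁻¹ * z * g) * g⁻¹ = z
          group
    have hmap : T'.map (MulAut.conj g).toMonoidHom = T' := by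
      rw [hT', map_commutator, hgT]
    intro y
    rw [← hT']
    constructor
    · intro hy
      have : g * (y * g) * g⁻¹ ∈ T' := by
        rw [← hmap]
        exact ⟨y * g, hy, rfl⟩
      have e : g * (y * g) * g⁻¹ = g * y := by group
      rwa [e] at this
    · intro hy
      rw [← hmap] at hy
      obtain ⟨z, hz, hzy⟩ := hy
      have hzy' : g * z * g⁻¹ = g * y := hzy
      have : y * g = z := by
        have h7 : z = g⁻¹ * (g * z * g⁻¹) * g := by group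
        rw [h7, hzy']; group
      rw [this]; exact hz
  obtain ⟨z, hz, hzo, hzc⟩ := H23.exists_central_orderOf h.hP (N := T'.subgroupOf P) (by
    refine ⟨fun n hn g => ?_⟩
    rw [mem_subgroupOf] at hn ⊢
    exact (mem_normalizer_iff.1 (hPT' g.2) _).1 hn) (by
    intro h0
    apply hT'1
    rw [eq_bot_iff]
    intro y hy
    have hyP : y ∈ P := T_le (hT'T hy)
    have h6 : (⟨y, hyP⟩ : P) ∈ T'.subgroupOf P := hy
    rw [h0, mem_bot] at h6
    exact congrArg Subtype.val h6)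
  have hzT : (z : G) ∈ T' := hz
  have hzp : (z : G) ^ p = 1 := by
    rw [← hzo, ← Subgroup.orderOf_coe, pow_orderOf_eq_one]
  have hzW : (z : G) ∈ W := h.ord_T (hT'T hzT) hzp
  have hz1 : (z : G) ≠ 1 := by
    intro h0
    have h6 : orderOf (z : G) = p := by rw [Subgroup.orderOf_coe, hzo]
    rw [h0, orderOf_one] at h6
    exact hp.out.one_lt.ne h6
  have hzx : (z : G) ∉ zpowers x := by
    intro h6
    apply hz1
    have h7 : (z : G) ∈ ⁅T P W, K⁆ ⊓ (T P W ⊓ centralizer (K : Set G)) := by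
      refine mem_inf.2 ⟨h5 hzT, mem_inf.2 ⟨hT'T hzT, ?_⟩⟩
      refine (zpowers_le.2 ?_) h6
      rw [mem_centralizer_iff]
      exact fun k hk => h.hKx k hk
    rw [h3, mem_bot] at h7
    exact h7
  apply h.not_le
  intro g hg
  have h6 : g * (z : G) = z * g := congrArg Subtype.val (mem_center_iff.1 hzc ⟨g, hg⟩)
  exact (h.mem_of_comm hg hzW hzx h6).2

/-- the fixed points -/
def T0 (P K W : Subgroup G) : Subgroup G := T P W ⊓ centralizer (K : Set G)

omit [Finite G] in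
theorem mem_T0 {u : G} : u ∈ T0 P K W ↔ u ∈ T P W ∧ ∀ k ∈ K, k * u = u * k := by
  rw [T0, mem_inf, mem_centralizer_iff]
  rfl

theorem x_mem_T0 (h : Ctx p P K W x) : x ∈ T0 P K W := mem_T0.2 ⟨h.W_le h.hxW, h.hKx⟩

theorem U_le (h : Ctx p P K W x) : ⁅T P W, K⁆ ≤ T P W := le_normalizer_iff_commutator_le_left.1 h.K_norm_T

theorem decomp (h : Ctx p P K W x) {τ : G} (hτ : τ ∈ T P W) : ∃ u ∈ ⁅T P W, K⁆, ∃ v ∈ T0 P K W, τ = u * v := by
  have h2 := h.facts.2.1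
  rw [← h2] at hτ
  have hle : (T P W ⊓ centralizer (K : Set G)) ≤ normalizer ((⁅T P W, K⁆ : Subgroup G) : Set G) := by
    intro g hg
    apply Subgroup.centralizer_le_normalizer
    rw [mem_centralizer_iff]
    intro u hu
    exact (h.commute_T u (h.U_le hu) g hg.1).eq
  rw [mem_sup_iff_of_normalizes hle] at hτ
  obtain ⟨u, hu, v, hv, rfl⟩ := hτ
  exact ⟨u, hu, v, hv, rfl⟩

theorem disj (h : Ctx p P K W x) {τ : G} (hu : τ ∈ ⁅T P W, K⁆) (hv : τ ∈ T0 P K W) : τ = 1 := by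
  have h3 := h.facts.2.2.1
  have : τ ∈ ⁅T P W, K⁆ ⊓ (T P W ⊓ centralizer (K : Set G)) := ⟨hu, hv⟩
  rwa [h3, mem_bot] at this

theorem index_T (h : Ctx p P K W x) : Nat.card P = Nat.card (T P W) * p := by
  have hRS : H65.RSet p ↥P (W.subgroupOf P) := by
    refine ⟨h.hp2, h.hP, ?_, ?_, ?_, ?_, ?_⟩
    · refine ⟨fun n hn g => ?_⟩
      rw [mem_subgroupOf] at hn ⊢
      exact h.conj_W (Or.inl g.2) hn
    · rw [Nat.card_congr (subgroupOfEquivOfLe h.hWP).toEquiv, h.hWc]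
    · intro n hn
      exact Subtype.ext (h.hW.2 n hn)
    · intro c hc hcp
      rw [mem_subgroupOf]
      refine mem_of_rank h.hr h.hWP h.hW h.hWc c.2 (congrArg Subtype.val hcp) fun e he => ?_
      exact congrArg Subtype.val (mem_centralizer_iff.1 hc ⟨e, h.hWP he⟩ he)
    · intro h0
      obtain ⟨y, hy, hyT⟩ := h.exists_y
      apply hyT
      rw [mem_T]
      refine ⟨hy, fun w hw => ?_⟩
      have h1 : (⟨y, hy⟩ : P) ∈ centralizer (W.subgroupOf P : Set P) := by rw [h0]; exact mem_top _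
      exact congrArg Subtype.val (mem_centralizer_iff.1 h1 ⟨w, h.hWP hw⟩ hw)
  have h1 := hRS.index_C
  have h2 : centralizer (W.subgroupOf P : Set P) = (T P W).subgroupOf P := by
    ext c
    rw [mem_subgroupOf, mem_T, mem_centralizer_iff]
    constructor
    · intro h3
      exact ⟨c.2, fun w hw => congrArg Subtype.val (h3 ⟨w, h.hWP hw⟩ hw)⟩
    · rintro ⟨-, h3⟩ w hw
      exact Subtype.ext (h3 w hw)
  rw [h2] at h1
  rw [← ((T P W).subgroupOf P).card_mul_index, h1, Nat.card_congr (subgroupOfEquivOfLe T_le).toEquiv]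

theorem index_T' (h : Ctx p P K W x) : ((T P W).subgroupOf P).index = p := by
  have h1 := ((T P W).subgroupOf P).card_mul_index
  rw [h.index_T, Nat.card_congr (subgroupOfEquivOfLe (T_le (P := P) (W := W))).toEquiv] at h1
  exact Nat.eq_of_mul_eq_mul_left Nat.card_pos h1

/-- `P = T ⟨y⟩` -/
theorem exists_pow (h : Ctx p P K W x) {y : G} (hy : y ∈ P) (hyT : y ∉ T P W) {u : G} (hu : u ∈ P) :
    ∃ i : ℤ, u * (y ^ i)⁻¹ ∈ T P W := by
  set T' := (T P W).subgroupOf P with hT'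
  have hn : T'.Normal := by
    refine ⟨fun n hn g => ?_⟩
    rw [mem_subgroupOf] at hn ⊢
    exact h.conj_T (Or.inl g.2) hn
  have hc : Nat.card (P ⧸ T') = p := h.index_T'
  have hy1 : (QuotientGroup.mk' T' ⟨y, hy⟩) ≠ 1 := by
    intro h0
    have h1 : (⟨y, hy⟩ : P) ∈ T' := (QuotientGroup.eq_one_iff _).1 h0
    exact hyT h1
  have h1 : QuotientGroup.mk' T' ⟨u, hu⟩ ∈ zpowers (QuotientGroup.mk' T' ⟨y, hy⟩) :=
    mem_zpowers_of_prime_card hc hy1
  obtain ⟨i, hi⟩ := mem_zpowers_iff.1 h1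
  refine ⟨i, ?_⟩
  have h2 : QuotientGroup.mk' T' (⟨u, hu⟩ * (⟨y, hy⟩ ^ i)⁻¹) = 1 := by
    rw [map_mul, map_inv, map_zpow, hi, mul_inv_cancel]
  have h3 : (⟨u, hu⟩ * (⟨y, hy⟩ ^ i)⁻¹ : P) ∈ T' := (QuotientGroup.eq_one_iff _).1 h2
  exact h3

theorem pow_p_mem (h : Ctx p P K W x) {y : G} (hy : y ∈ P) : y ^ p ∈ T P W := by
  set T' := (T P W).subgroupOf P with hT'
  have hn : T'.Normal := by
    refine ⟨fun n hn g => ?_⟩
    rw [mem_subgroupOf] at hn ⊢
    exact h.conj_T (Or.inl g.2) hn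
  have h1 : (⟨y, hy⟩ : P) ^ T'.index ∈ T' := pow_index_mem T' _
  rw [h.index_T'] at h1
  exact h1

/-- `P / T` acts: `u w u⁻¹ w⁻¹ ∈ ⟨x⟩` -/
theorem comm_W (h : Ctx p P K W x) {u w : G} (hu : u ∈ P) (hw : w ∈ W) : u * w * u⁻¹ * w⁻¹ ∈ zpowers x :=
  comm_mem_zpowers h.hP h.hWP h.hPW h.hWc h.hx h.hxW h.hxc hu hw

end Ctx

end Cfsg.Agent.H88
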