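import Cfsg.Agent.H88.RankTwo3
import Cfsg.Agent.S0639
import Cfsg.Agent.S0128

set_option autoImplicit false
set_option maxHeartbeats 400000

/-!
# Rank two `p`-groups with a unique normal subgroup of type `(p, p)`, `p > 3` (helper88)
-/

namespace Cfsg.Agent.H88

open Subgroup Cfsg.Agent.H85
open scoped commutatorElement

universe u

namespace Ctx

variable {G : Type u} [Group G] [Finite G] {p : ℕ} [hp : Fact p.Prime] {P K W : Subgroup G} {x : G}

omit [Finite G] hp in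
theorem conj_U (h : Ctx p P K W x) {k : G} (hk : k ∈ K) {u : G} (hu : u ∈ ⁅T P W, K⁆) : k * u * k⁻¹ ∈ ⁅T P W, K⁆ :=
  (mem_normalizer_iff.1 (normalizer_commutator_ge_right (T P W) K hk) u).1 hu

/-- the general principle: if `P = N T0` with `N` a `K`-invariant subgroup, then `P ≤ N` -/
theorem le_of_forall (h : Ctx p P K W x) {N : Subgroup G} (hKN : ∀ k ∈ K, ∀ n ∈ N, k * n * k⁻¹ ∈ N)
    (hN : ∀ g ∈ P, ∃ n ∈ N, ∃ v ∈ T0 P K W, g = n * v) : P ≤ N := by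
  conv_lhs => rw [← h.hPK]
  rw [commutator_le]
  intro g hg k hk
  obtain ⟨n, hn, v, hv, rfl⟩ := hN g hg
  have h1 : k * v = v * k := (mem_T0.1 hv).2 k hk
  have h2 : ⁅n * v, k⁆ = n * (k * n⁻¹ * k⁻¹) := by
    rw [commutatorElement_def]
    calc n * v * k * (n * v)⁻¹ * k⁻¹ = n * (v * k) * v⁻¹ * n⁻¹ * k⁻¹ := by group
      _ = n * (k * v) * v⁻¹ * n⁻¹ * k⁻¹ := by rw [h1]
      _ = _ := by group
  rw [h2]
  exact N.mul_mem hn (hKN k hk _ (N.inv_mem hn))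

/-- an element of `W ∩ U` -/
theorem exists_w (h : Ctx p P K W x) : ∃ k ∈ K, ∃ w ∈ W, w ∈ ⁅T P W, K⁆ ∧ w ≠ 1 ∧ w ∉ zpowers x ∧ k * w * k⁻¹ ≠ w := by
  obtain ⟨k, hk, w', hw', hkw⟩ := h.exists_k
  set w : G := w' * (k * w'⁻¹ * k⁻¹) with hw
  have hwW : w ∈ W := W.mul_mem hw' (h.conj_W (Or.inr hk) (W.inv_mem hw'))
  have hwU : w ∈ ⁅T P W, K⁆ := by
    have : w = ⁅w', k⁆ := by rw [commutatorElement_def, hw]; group
    rw [this]
    exact commutator_mem_commutator (h.W_le hw') hk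
  have hw1 : w ≠ 1 := by
    intro h0
    apply hkw
    have : k * w' * k⁻¹ = w⁻¹ * w' := by rw [hw]; group
    rw [this, h0]; group
  have hwx : w ∉ zpowers x := by
    intro h0
    apply hw1
    refine h.disj hwU ?_
    exact (zpowers_le.2 h.x_mem_T0) h0
  refine ⟨k, hk, w, hwW, hwU, hw1, hwx, ?_⟩
  intro h0
  apply hkw
  obtain ⟨i, j, hij⟩ := form_of_card_sq h.hW h.hWc h.hx h.hxW hwW hwx hw'
  have c1 : k * x * k⁻¹ = x := by rw [h.hKx k hk]; group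
  rw [hij]
  have e : ∀ a b : G, k * (a * b) * k⁻¹ = (k * a * k⁻¹) * (k * b * k⁻¹) := fun a b => by group
  rw [e, ← conj_zpow, ← conj_zpow, c1, h0]

/-- `W ≤ U ⟨x⟩` -/
theorem W_form (h : Ctx p P K W x) {v : G} (hv : v ∈ W) : ∃ u ∈ ⁅T P W, K⁆, ∃ i : ℤ, v = u * x ^ i := by
  obtain ⟨k, hk, w, hwW, hwU, hw1, hwx, -⟩ := h.exists_w
  obtain ⟨i, j, hij⟩ := form_of_card_sq h.hW h.hWc h.hx h.hxW hwW hwx hv
  refine ⟨w ^ j, Subgroup.zpow_mem _ hwU j, i, ?_⟩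
  rw [hij]
  exact ((h.commW x h.hxW w hwW).zpow_zpow i j).eq

theorem nonab (h : Ctx p P K W x) : ¬ ∀ a ∈ P, ∀ b ∈ P, a * b = b * a := by
  intro h0
  exact h.not_le fun g hg => mem_centralizer_iff.2 fun w hw => h0 w (h.hWP hw) g hg

/-- `p > 3`: an element of order `p` outside `T` -/
theorem exists_y_pow (h : Ctx p P K W x) (hp3 : 3 < p) : ∃ y ∈ P, y ^ p = 1 ∧ y ∉ T P W := by
  by_contra hcon
  push Not at hcon
  have hO : Nat.card ↥(Cfsg.omegaOne p (⊤ : Subgroup ↥P)) ≤ p ^ 2 := by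
    have h1 : Cfsg.omegaOne p (⊤ : Subgroup ↥P) ≤ W.subgroupOf P := by
      rw [Cfsg.omegaOne, Subgroup.closure_le]
      rintro z hz
      have hzp : z ^ p = 1 := by
        obtain ⟨_, h2⟩ := hz
        exact h2
      have hzp' : (z : G) ^ p = 1 := congrArg Subtype.val hzp
      exact h.ord_T (hcon z z.2 hzp') hzp'
    refine (Subgroup.card_le_of_le h1).trans ?_
    rw [Nat.card_congr (subgroupOfEquivOfLe h.hWP).toEquiv, h.hWc]
  have hm := S0639.result hp3 h.hP hO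
  have h1 := (S1447.result p h.hp2 P K h.hP hm h.hK h.hcop).2.2.1
  have h2 : x ∈ ⁅P, K⁆ ⊓ (P ⊓ centralizer (K : Set G)) := by
    rw [h.hPK]
    exact mem_inf.2 ⟨h.hxP, mem_inf.2 ⟨h.hxP, mem_centralizer_iff.2 fun k hk => h.hKx k hk⟩⟩
  rw [h1, mem_bot] at h2
  exact h.x_ne h2

/-- the elements of order `p` form a subgroup -/
theorem exists_omega (h : Ctx p P K W x) (hp3 : 3 < p) : ∃ N : Subgroup G, N ≤ P ∧ ∀ u, u ∈ N ↔ u ∈ P ∧ u ^ p = 1 := by
  have hmul : ∀ g ∈ Subgroup.closure {z : ↥P | z ^ p = 1}, g ^ p = 1 := by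
    intro g hg
    refine S0128.result hp3 h.hP ?_ g hg
    intro E hE
    have h1 : Cfsg.IsElementaryAbelian p (E.map P.subtype) := by
      refine ⟨⟨⟨?_⟩⟩, ?_⟩
      · rintro ⟨_, a, ha, rfl⟩ ⟨_, b, hb, rfl⟩
        apply Subtype.ext
        have := hE.1.is_comm.comm ⟨a, ha⟩ ⟨b, hb⟩
        have h2 : a * b = b * a := congrArg Subtype.val this
        show (a : G) * (b : G) = (b : G) * (a : G)
        exact congrArg Subtype.val h2
      · rintro _ ⟨a, ha, rfl⟩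
        have := hE.2 a ha
        exact congrArg Subtype.val this
    have h2 := h.hr (E.map P.subtype) (by rintro _ ⟨a, _, rfl⟩; exact a.2) h1
    rwa [Nat.card_congr (E.equivMapOfInjective P.subtype P.subtype_injective).toEquiv.symm] at h2
  refine ⟨(Subgroup.closure {z : ↥P | z ^ p = 1}).map P.subtype, ?_, ?_⟩
  · rintro _ ⟨a, _, rfl⟩; exact a.2
  · intro u
    constructor
    · rintro ⟨a, ha, rfl⟩
      exact ⟨a.2, congrArg Subtype.val (hmul a ha)⟩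
    · rintro ⟨hu, hup⟩
      exact ⟨⟨u, hu⟩, Subgroup.subset_closure (Subtype.ext hup), rfl⟩

/-- **`p > 3`** -/
theorem concl (h : Ctx p P K W x) (hp3 : 3 < p) : Nat.card P = p ^ 3 ∧ ∀ u ∈ P, u ^ p = 1 := by
  obtain ⟨y, hyP, hyp, hyT⟩ := h.exists_y_pow hp3
  obtain ⟨N, hNP, hN⟩ := h.exists_omega hp3
  have hNn : ∀ g : G, (g ∈ P ∨ g ∈ K) → ∀ n ∈ N, g * n * g⁻¹ ∈ N := by
    intro g hg n hn
    rw [hN] at hn ⊢
    exact ⟨h.conj_P hg hn.1, by rw [conj_pow, hn.2]; group⟩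
  have hUN : ⁅T P W, K⁆ ≤ normalizer (N : Set G) := by
    intro g hg
    have hgP : g ∈ P := T_le (h.U_le hg)
    rw [mem_normalizer_iff]
    intro v
    refine ⟨fun hv => hNn g (Or.inl hgP) v hv, fun h1 => ?_⟩
    have h2 := hNn g⁻¹ (Or.inl (P.inv_mem hgP)) _ h1
    have h3 : g⁻¹ * (g * v * g⁻¹) * g⁻¹⁻¹ = v := by group
    rwa [h3] at h2
  have hmem : ∀ g, g ∈ N ⊔ ⁅T P W, K⁆ ↔ ∃ n ∈ N, ∃ u ∈ ⁅T P W, K⁆, n * u = g := by
    intro g
    exact mem_sup_iff_of_normalizes hUN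
  have hPle : P ≤ N ⊔ ⁅T P W, K⁆ := by
    apply h.le_of_forall
    · intro k hk m hm
      obtain ⟨n, hn, u, hu, rfl⟩ := (hmem _).1 hm
      have : k * (n * u) * k⁻¹ = (k * n * k⁻¹) * (k * u * k⁻¹) := by group
      rw [this]
      exact Subgroup.mul_mem _ ((le_sup_left : N ≤ _) (hNn k (Or.inr hk) n hn))
        ((le_sup_right : ⁅T P W, K⁆ ≤ _) (h.conj_U hk hu))
    · intro g hg
      obtain ⟨i, hi⟩ := h.exists_pow hyP hyT hg
      obtain ⟨u, hu, v, hv, huv⟩ := h.decomp hi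
      refine ⟨u * (v * y ^ i * v⁻¹), ?_, v, hv, ?_⟩
      · refine Subgroup.mul_mem _ ((le_sup_right : ⁅T P W, K⁆ ≤ _) hu) ((le_sup_left : N ≤ _) ?_)
        apply hNn v (Or.inl (T_le (mem_T0.1 hv).1))
        exact Subgroup.zpow_mem _ ((hN y).2 ⟨hyP, hyp⟩) i
      · calc g = (g * (y ^ i)⁻¹) * y ^ i := by group
          _ = (u * v) * y ^ i := by rw [huv]
          _ = _ := by group
  -- `T0 = ⟨x⟩`
  have hT0 : ∀ v ∈ T0 P K W, v ∈ zpowers x := by
    intro v hv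
    have hvT := (mem_T0.1 hv).1
    obtain ⟨n, hn, u, hu, hnu⟩ := (hmem v).1 (hPle (T_le hvT))
    have hnT : n ∈ T P W := by
      have : n = v * u⁻¹ := by rw [← hnu]; group
      rw [this]
      exact (T P W).mul_mem hvT ((T P W).inv_mem (h.U_le hu))
    have hnW : n ∈ W := h.ord_T hnT ((hN n).1 hn).2
    obtain ⟨u', hu', i, hui⟩ := h.W_form hnW
    have hxT0 := h.x_mem_T0
    have e1 : v * (x ^ i)⁻¹ = u' * u := by
      have c1 : Commute (x ^ i) u := by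
        have := h.hxc u (T_le (h.U_le hu))
        exact (Commute.zpow_left (show Commute x u from this.symm) i)
      rw [← hnu, hui]
      calc u' * x ^ i * u * (x ^ i)⁻¹ = u' * (x ^ i * u) * (x ^ i)⁻¹ := by group
        _ = u' * (u * x ^ i) * (x ^ i)⁻¹ := by rw [c1.eq]
        _ = u' * u := by group
    have h1 : v * (x ^ i)⁻¹ = 1 := by
      apply h.disj
      · rw [e1]; exact Subgroup.mul_mem _ hu' hu
      · exact Subgroup.mul_mem _ hv (Subgroup.inv_mem _ (Subgroup.zpow_mem _ hxT0 i))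
    exact ⟨i, (mul_inv_eq_one.1 h1).symm⟩
  -- elements of `U` with trivial `p ^ 2`-th power have trivial `p`-th power
  have hU2 : ∀ u ∈ ⁅T P W, K⁆, (u ^ p) ^ p = 1 → u ^ p = 1 := by
    intro u hu hup
    by_contra hne
    have huT := h.U_le hu
    have hwU : u ^ p ∈ ⁅T P W, K⁆ := Subgroup.pow_mem _ hu p
    have hwW : u ^ p ∈ W := h.ord_T (h.U_le hwU) hup
    have hwx : u ^ p ∉ zpowers x := by
      intro h0
      exact hne (h.disj hwU ((zpowers_le.2 h.x_mem_T0) h0))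
    apply hyT
    apply h.mem_of_comm hyP hwW hwx
    have h1 := h.comm_W hyP hwW
    have hyuT : y * u * y⁻¹ ∈ T P W := h.conj_T (Or.inl hyP) huT
    have h2 : y * u ^ p * y⁻¹ * (u ^ p)⁻¹ = (y * u * y⁻¹ * u⁻¹) ^ p := by
      rw [(h.commute_T _ hyuT _ ((T P W).inv_mem huT)).mul_pow, conj_pow, inv_pow]
    have h3 : y * u * y⁻¹ * u⁻¹ ∈ T P W := (T P W).mul_mem hyuT ((T P W).inv_mem huT)
    obtain ⟨u1, hu1, v1, hv1, huv⟩ := h.decomp h3
    have h4 : v1 ^ p = 1 := by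
      obtain ⟨i, rfl⟩ := hT0 v1 hv1
      show (x ^ i) ^ p = 1
      rw [← zpow_natCast, ← zpow_mul, mul_comm, zpow_mul, zpow_natCast, h.hxp, one_zpow]
    have h5 : y * u ^ p * y⁻¹ * (u ^ p)⁻¹ ∈ ⁅T P W, K⁆ := by
      rw [h2, huv, (h.commute_T _ (h.U_le hu1) _ (mem_T0.1 hv1).1).mul_pow, h4, mul_one]
      exact Subgroup.pow_mem _ hu1 p
    have h6 : y * u ^ p * y⁻¹ * (u ^ p)⁻¹ = 1 := h.disj h5 ((zpowers_le.2 h.x_mem_T0) h1)
    have h7 : y * u ^ p * y⁻¹ = u ^ p := mul_inv_eq_one.1 h6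
    calc y * u ^ p = (y * u ^ p * y⁻¹) * y := by group
      _ = u ^ p * y := by rw [h7]
  have hUp : ∀ u ∈ ⁅T P W, K⁆, u ^ p = 1 := by
    intro u hu
    obtain ⟨k, hk⟩ := h.hP ⟨u, T_le (h.U_le hu)⟩
    have hk' : u ^ p ^ k = 1 := congrArg Subtype.val hk
    have key : ∀ m : ℕ, ∀ u ∈ ⁅T P W, K⁆, u ^ p ^ m = 1 → u ^ p = 1 := by
      intro m
      induction m with
      | zero =>
        intro u _ h0
        rw [pow_zero, pow_one] at h0
        rw [h0, one_pow]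
      | succ m ih =>
        intro u hu h0
        apply hU2 u hu
        apply ih (u ^ p) (Subgroup.pow_mem _ hu p)
        rw [← pow_mul, ← pow_succ']
        exact h0
    exact key k u hu hk'
  have hTp : ∀ u ∈ T P W, u ^ p = 1 := by
    intro τ hτ
    obtain ⟨u, hu, v, hv, rfl⟩ := h.decomp hτ
    have h4 : v ^ p = 1 := by
      obtain ⟨i, rfl⟩ := hT0 v hv
      show (x ^ i) ^ p = 1
      rw [← zpow_natCast, ← zpow_mul, mul_comm, zpow_mul, zpow_natCast, h.hxp, one_zpow]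
    rw [(h.commute_T _ (h.U_le hu) _ (mem_T0.1 hv).1).mul_pow, h4, hUp u hu, one_mul]
  have hTW : T P W = W := le_antisymm (fun u hu => h.ord_T hu (hTp u hu)) h.W_le
  constructor
  · rw [h.index_T, hTW, h.hWc, ← pow_succ]
  · intro g hg
    obtain ⟨n, hn, u, hu, hnu⟩ := (hmem g).1 (hPle hg)
    have huN : u ∈ N := (hN u).2 ⟨T_le (h.U_le hu), hUp u hu⟩
    have hgN : g ∈ N := by rw [← hnu]; exact N.mul_mem hn huN
    exact ((hN g).1 hgN).2

end Ctx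

end Cfsg.Agent.H88
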