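import Cfsg.Agent.H88.RankTwo4
import Cfsg.Agent.S0112
import Mathlib

set_option autoImplicit false
set_option maxHeartbeats 400000

/-!
# Rank two `3`-groups with a unique normal subgroup of type `(3, 3)` (helper88)
-/

namespace Cfsg.Agent.H88

open Subgroup Cfsg.Agent.H85
open scoped commutatorElement

universe u

namespace AbsThree

variable {A : Type u} [AddCommGroup A] (c s : A →+ A)

theorem norm_zero (hs : ∀ a, s (s a) = a) (hc : ∀ a, c (c (c a)) = a) (hsc : ∀ a, s (c a) = c (c (s a)))
    (hodd : ∀ a : A, a + a = 0 → a = 0) (hF : ∀ a, c a = a → s a = a)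
    (hgen : ∀ a, ∃ u d, s u = -u ∧ a = u + (c d - d)) (a : A) : a + c a + c (c a) = 0 := by
  have hN : ∀ a, s (a + c a + c (c a)) = a + c a + c (c a) := by
    intro a
    apply hF
    rw [map_add, map_add, hc]
    abel
  have hsN : ∀ a, s (a + c a + c (c a)) = s a + c (s a) + c (c (s a)) := by
    intro a
    rw [map_add, map_add, hsc, hsc (c a), hsc a, hc]
    abel
  obtain ⟨u, d, hu, rfl⟩ := hgen a
  have h1 : u + c u + c (c u) = 0 := by
    apply hodd
    have h2 := hN u
    rw [hsN u, hu, map_neg, map_neg] at h2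
    have h3 : u + c u + c (c u) + (u + c u + c (c u)) = u + c u + c (c u) - (-u + -c u + -c (c u)) := by abel
    rw [h3, h2, sub_self]
  have h2 : (u + (c d - d)) + c (u + (c d - d)) + c (c (u + (c d - d))) = (u + c u + c (c u)) + (c (c (c d)) - d) := by
    simp only [map_add, map_sub]
    abel
  rw [h2, h1, hc, sub_self, add_zero]

/-- the subgroup of inverted elements -/
def Um : AddSubgroup A where
  carrier := {a | s a = -a}
  add_mem' := by
    intro a b ha hb
    show s (a + b) = -(a + b)
    rw [map_add, show s a = -a from ha, show s b = -b from hb]; abel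
  zero_mem' := by show s 0 = -0; rw [map_zero, neg_zero]
  neg_mem' := by
    intro a ha
    show s (-a) = - -a
    rw [map_neg, show s a = -a from ha]

/-- the fixed points -/
def Fm : AddSubgroup A where
  carrier := {a | s a = a}
  add_mem' := by
    intro a b ha hb
    show s (a + b) = (a + b)
    rw [map_add, show s a = a from ha, show s b = b from hb]
  zero_mem' := by show s 0 = 0; rw [map_zero]
  neg_mem' := by
    intro a ha
    show s (-a) = -a
    rw [map_neg, show s a = a from ha]

omit c in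
variable {s} in
theorem mem_Um {a : A} : a ∈ Um s ↔ s a = -a := Iff.rfl
omit c in
variable {s} in
theorem mem_Fm {a : A} : a ∈ Fm s ↔ s a = a := Iff.rfl

theorem card_sq (hs : ∀ a, s (s a) = a) (hc : ∀ a, c (c (c a)) = a) (hsc : ∀ a, s (c a) = c (c (s a)))
    (hodd : ∀ a : A, a + a = 0 → a = 0) (hF : ∀ a, c a = a → s a = a)
    (hgen : ∀ a, ∃ u d, s u = -u ∧ a = u + (c d - d))
    (hdec : ∀ a, ∃ u v, s u = -u ∧ s v = v ∧ a = u + v) : Nat.card A = Nat.card (Fm s) ^ 2 := by
  have hzero : ∀ z, s z = -z → s z = z → z = 0 := by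
    intro z h1 h2
    apply hodd
    rw [h2] at h1
    nth_rewrite 1 [h1]
    exact neg_add_cancel z
  have hsc2 : ∀ a, s (c (c a)) = c (s a) := by
    intro a
    rw [hsc, hsc, hc]
  -- theta
  have hU : ∀ u, s u = -u → s (c u - c (c u)) = c u - c (c u) := by
    intro u hu
    rw [map_sub, hsc, hsc2, hu, map_neg, map_neg]; abel
  have hT : ∀ v, s v = v → s (c v - c (c v)) = -(c v - c (c v)) := by
    intro v hv
    rw [map_sub, hsc, hsc2, hv]; abel
  have e1 : Nat.card (Um s) = Nat.card (Fm s) := by
    refine Nat.card_eq_of_bijective (fun u : Um s => (⟨c u - c (c u), hU u u.2⟩ : Fm s)) ⟨?_, ?_⟩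
    · rintro ⟨u, hu⟩ ⟨u', hu'⟩ huu
      have h1 : c u - c (c u) = c u' - c (c u') := congrArg Subtype.val huu
      have hz : c (u - u') = c (c (u - u')) := by
        simp only [map_sub]
        rw [← sub_eq_zero] at h1 ⊢
        rw [← h1]; abel
      have h2 : c (u - u') = u - u' := by
        have h3 := congrArg c hz
        rw [hc] at h3
        rw [hz, h3]
      have h3 := hF _ h2
      have h4 : s (u - u') = -(u - u') := by
        rw [map_sub, mem_Um.1 hu, mem_Um.1 hu']; abel
      exact Subtype.ext (sub_eq_zero.1 (hzero _ h4 h3))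
    · rintro ⟨v, hv⟩
      obtain ⟨u, d, hu, hvd⟩ := hgen v
      obtain ⟨u1, v1, hu1, hv1, h1⟩ := hdec (d + c d)
      refine ⟨⟨u1, hu1⟩, Subtype.ext ?_⟩
      show c u1 - c (c u1) = v
      have h2 : c d - d = (c u1 - c (c u1)) + (c v1 - c (c v1)) := by
        have h3 : c (d + c d) - c (c (d + c d)) = c d - d := by
          simp only [map_add]
          rw [hc]; abel
        rw [← h3, h1]
        simp only [map_add]
        abel
      have h3 : v - (c u1 - c (c u1)) = u + (c v1 - c (c v1)) := by
        rw [hvd, h2]; abel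
      have h4 : v - (c u1 - c (c u1)) = 0 := by
        apply hzero
        · rw [h3, map_add, hu, hT v1 hv1]; abel
        · rw [map_sub, mem_Fm.1 hv, hU u1 hu1]
      exact (sub_eq_zero.1 h4).symm
  have e2 : Nat.card (Um s × Fm s) = Nat.card A := by
    refine Nat.card_eq_of_bijective (fun z : Um s × Fm s => (z.1 : A) + z.2) ⟨?_, ?_⟩
    · rintro ⟨⟨u, hu⟩, ⟨v, hv⟩⟩ ⟨⟨u', hu'⟩, ⟨v', hv'⟩⟩ huv
      have h1 : u + v = u' + v' := huv
      have h2 : u - u' = v' - v := by
        rw [← sub_eq_zero] at h1 ⊢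
        rw [← h1]; abel
      have h3 : u - u' = 0 := by
        apply hzero
        · rw [map_sub, mem_Um.1 hu, mem_Um.1 hu']; abel
        · rw [h2, map_sub, mem_Fm.1 hv, mem_Fm.1 hv']
      have h4 : u = u' := sub_eq_zero.1 h3
      have h5 : v' = v := sub_eq_zero.1 (by rw [← h2, h3])
      subst h4; subst h5; rfl
    · intro a
      obtain ⟨u, v, hu, hv, rfl⟩ := hdec a
      exact ⟨(⟨u, hu⟩, ⟨v, hv⟩), rfl⟩
  rw [← e2, Nat.card_prod, e1, sq]

end AbsThree

end Cfsg.Agent.H88
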