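import Cfsg.Agent.H88.RankTwo5

set_option autoImplicit false
set_option maxHeartbeats 400000

/-!
# Rank two `3`-groups with a unique normal subgroup of type `(3, 3)`, II (helper88)
-/

namespace Cfsg.Agent.H88

open Subgroup Cfsg.Agent.H85
open scoped commutatorElement

universe u

theorem eq_one_of_pow_coprime {G : Type u} [Group G] {p : ℕ} [hp : Fact p.Prime] {P : Subgroup G} (hP : IsPGroup p P)
    {g : G} (hg : g ∈ P) {n : ℕ} (hn : n.Coprime p) (h : g ^ n = 1) : g = 1 := by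
  obtain ⟨k, hk⟩ := hP ⟨g, hg⟩
  have hk' : g ^ p ^ k = 1 := congrArg Subtype.val hk
  have h1 : orderOf g ∣ 1 := by
    have h2 : Nat.gcd n (p ^ k) = 1 := hn.pow_right k
    rw [← h2]
    exact Nat.dvd_gcd (orderOf_dvd_of_pow_eq_one h) (orderOf_dvd_of_pow_eq_one hk')
  exact orderOf_eq_one_iff.1 (Nat.dvd_one.1 h1)

namespace Ctx

section
variable {G : Type u} [Group G] [Finite G] {p : ℕ} [hp : Fact p.Prime] {P K W : Subgroup G} {x : G}

/-- elements of `K` centralizing `W` centralize `P` -/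
theorem cent_of_W (h : Ctx p P K W x) {k : G} (hk : k ∈ K) (hkW : ∀ w ∈ W, k * w * k⁻¹ = w) :
    ∀ u ∈ P, k * u * k⁻¹ = u := by
  have hA : zpowers k ≤ K := zpowers_le.2 hk
  have hcop : (Nat.card (zpowers k)).Coprime p := h.hcop.coprime_dvd_left (card_dvd_of_le hA)
  have hcomm : ∀ w ∈ W, k * w = w * k := fun w hw => by
    conv_rhs => rw [← hkW w hw]
    group
  have h1 : zpowers k ≤ centralizer (T P W : Set G) := by
    refine BG.le_centralizer_of_omega1 h.hp2 (zpowers k) hcop _ (T P W) rfl h.isPT (hA.trans h.K_norm_T) ?_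
    intro u hu hup a ha
    obtain ⟨i, rfl⟩ := mem_zpowers_iff.1 ha
    exact (Commute.zpow_left (show Commute k u from hcomm u (h.ord_T hu hup)) i).eq
  intro u hu
  set τ := u⁻¹ * (k * u * k⁻¹) with hτ
  have hτT : τ ∈ T P W := h.comm_T hk hkW hu
  have hkτ : k * τ * k⁻¹ = τ := by
    have h2 := mem_centralizer_iff.1 (h1 (mem_zpowers k)) τ hτT
    rw [← h2]; group
  have hn : ∀ n : ℕ, k ^ n * u * (k ^ n)⁻¹ = u * τ ^ n := by
    intro n
    induction n with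
    | zero => simp
    | succ n ih =>
      calc k ^ (n + 1) * u * (k ^ (n + 1))⁻¹ = k * (k ^ n * u * (k ^ n)⁻¹) * k⁻¹ := by
            rw [pow_succ']; group
        _ = k * (u * τ ^ n) * k⁻¹ := by rw [ih]
        _ = (k * u * k⁻¹) * (k * τ * k⁻¹) ^ n := by rw [conj_pow]; group
        _ = (k * u * k⁻¹) * τ ^ n := by rw [hkτ]
        _ = u * τ * τ ^ n := by rw [hτ]; group
        _ = u * τ ^ (n + 1) := by rw [pow_succ']; group
  have h2 := hn (orderOf k)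
  rw [pow_orderOf_eq_one, one_mul, inv_one, mul_one] at h2
  have h3 : τ ^ orderOf k = 1 := by
    have : u * 1 = u * τ ^ orderOf k := by rw [mul_one]; exact h2
    exact (mul_left_cancel this).symm
  rw [← Nat.card_zpowers] at h3
  have h4 : τ = 1 := eq_one_of_pow_coprime h.hP (T_le hτT) hcop h3
  rw [hτ] at h4
  exact (inv_mul_eq_one.1 h4).symm

end

section three

variable {G : Type u} [Group G] [Finite G] [hp : Fact (Nat.Prime 3)] {P K W : Subgroup G} {x : G}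

theorem exists_t (h : Ctx 3 P K W x) : ∃ t ∈ K, ∃ w ∈ W, w ∈ ⁅T P W, K⁆ ∧ w ≠ 1 ∧ w ∉ zpowers x ∧
    t * w * t⁻¹ = w⁻¹ ∧ ∀ k ∈ K, k * w * k⁻¹ = w ∨ k * w * k⁻¹ = w⁻¹ := by
  obtain ⟨t, ht, w, hwW, hwU, hw1, hwx, htw⟩ := h.exists_w
  have hw3 : w ^ 3 = 1 := h.hW.2 w hwW
  have key : ∀ k ∈ K, k * w * k⁻¹ = w ∨ k * w * k⁻¹ = w⁻¹ := by
    intro k hk
    have h1 : k * w * k⁻¹ ∈ W := h.conj_W (Or.inr hk) hwW
    have h2 : k * w * k⁻¹ ∈ ⁅T P W, K⁆ := h.conj_U hk hwU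
    obtain ⟨i, j, hij⟩ := form_of_card_sq h.hW h.hWc h.hx h.hxW hwW hwx h1
    have h3 : x ^ i = 1 := by
      apply h.disj
      · have : x ^ i = (k * w * k⁻¹) * (w ^ j)⁻¹ := by rw [hij]; group
        rw [this]
        exact Subgroup.mul_mem _ h2 (Subgroup.inv_mem _ (Subgroup.zpow_mem _ hwU j))
      · exact Subgroup.zpow_mem _ h.x_mem_T0 i
    rw [h3, one_mul] at hij
    have h4 : w ^ j = w ^ (j % 3) := by
      conv_lhs => rw [← Int.emod_add_mul_ediv j 3, zpow_add, zpow_mul, zpow_ofNat, hw3, one_zpow, mul_one]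
    have h5 : j % 3 = 0 ∨ j % 3 = 1 ∨ j % 3 = 2 := by omega
    rcases h5 with h5 | h5 | h5
    · exfalso
      rw [h5, zpow_zero] at h4
      rw [h4] at hij
      apply hw1
      have : w = k⁻¹ * (k * w * k⁻¹) * k := by group
      rw [this, hij]; group
    · left
      rw [hij, h4, h5, zpow_one]
    · right
      rw [hij, h4, h5]
      apply eq_inv_of_mul_eq_one_left
      have : w ^ (2 : ℤ) * w = w ^ 3 := by
        rw [zpow_ofNat, pow_succ w 2]
      rw [this, hw3]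
  exact ⟨t, ht, w, hwW, hwU, hw1, hwx, (key t ht).resolve_left htw, key⟩

/-- the refined context for `p = 3` -/
structure C3 (P K W : Subgroup G) (x t y : G) : Prop where
  h : Ctx 3 P K W x
  htK : t ∈ K
  hsq : ∀ u ∈ P, t * (t * u * t⁻¹) * t⁻¹ = u
  hact : ∀ k ∈ K, (∀ u ∈ P, k * u * k⁻¹ = u) ∨ (∀ u ∈ P, k * u * k⁻¹ = t * u * t⁻¹)
  hU : ∀ u ∈ ⁅T P W, K⁆, t * u * t⁻¹ = u⁻¹
  hyP : y ∈ P
  hyT : y ∉ T P W
  hty : t * y * t⁻¹ = y⁻¹

theorem exists_C3 (h : Ctx 3 P K W x) : ∃ t y, C3 P K W x t y := by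
  obtain ⟨t, ht, w, hwW, hwU, hw1, hwx, htw, key⟩ := h.exists_t
  have hcent : ∀ k ∈ K, k * w * k⁻¹ = w → ∀ u ∈ P, k * u * k⁻¹ = u := by
    intro k hk hkw
    apply h.cent_of_W hk
    intro v hv
    obtain ⟨i, j, rfl⟩ := form_of_card_sq h.hW h.hWc h.hx h.hxW hwW hwx hv
    have c1 : k * x * k⁻¹ = x := by rw [h.hKx k hk]; group
    have e : ∀ a b : G, k * (a * b) * k⁻¹ = (k * a * k⁻¹) * (k * b * k⁻¹) := fun a b => by group
    rw [e, ← conj_zpow, ← conj_zpow, c1, hkw]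
  have hsq : ∀ u ∈ P, t * (t * u * t⁻¹) * t⁻¹ = u := by
    intro u hu
    have h1 : (t * t) * w * (t * t)⁻¹ = w := by
      have : (t * t) * w * (t * t)⁻¹ = t * (t * w * t⁻¹) * t⁻¹ := by group
      rw [this, htw]
      have : t * w⁻¹ * t⁻¹ = (t * w * t⁻¹)⁻¹ := by group
      rw [this, htw, inv_inv]
    have h2 := hcent (t * t) (K.mul_mem ht ht) h1 u hu
    have h3 : t * (t * u * t⁻¹) * t⁻¹ = t * t * u * (t * t)⁻¹ := by group
    rw [h3, h2]
  have hact : ∀ k ∈ K, (∀ u ∈ P, k * u * k⁻¹ = u) ∨ (∀ u ∈ P, k * u * k⁻¹ = t * u * t⁻¹) := by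
    intro k hk
    rcases key k hk with h1 | h1
    · exact Or.inl (hcent k hk h1)
    · right
      intro u hu
      have h2 : (t⁻¹ * k) * w * (t⁻¹ * k)⁻¹ = w := by
        have : (t⁻¹ * k) * w * (t⁻¹ * k)⁻¹ = t⁻¹ * (k * w * k⁻¹) * t := by group
        rw [this, h1, ← htw]; group
      have h3 := hcent (t⁻¹ * k) (K.mul_mem (K.inv_mem ht) hk) h2 u hu
      calc k * u * k⁻¹ = t * ((t⁻¹ * k) * u * (t⁻¹ * k)⁻¹) * t⁻¹ := by group
        _ = _ := by rw [h3]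
  have hU : ∀ u ∈ ⁅T P W, K⁆, t * u * t⁻¹ = u⁻¹ := by
    let V : Subgroup G :=
      { carrier := {u | u ∈ T P W ∧ t * u * t⁻¹ = u⁻¹}
        mul_mem' := by
          rintro a b ⟨ha, ha'⟩ ⟨hb, hb'⟩
          refine ⟨(T P W).mul_mem ha hb, ?_⟩
          have : t * (a * b) * t⁻¹ = (t * a * t⁻¹) * (t * b * t⁻¹) := by group
          rw [this, ha', hb', mul_inv_rev]
          exact ((h.commute_T a ha b hb).inv_inv).eq
        one_mem' := ⟨(T P W).one_mem, by group⟩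
        inv_mem' := by
          rintro a ⟨ha, ha'⟩
          refine ⟨(T P W).inv_mem ha, ?_⟩
          have : t * a⁻¹ * t⁻¹ = (t * a * t⁻¹)⁻¹ := by group
          rw [this, ha'] }
    have hle : ⁅T P W, K⁆ ≤ V := by
      rw [commutator_le]
      intro τ hτ k hk
      have e : ⁅τ, k⁆ = τ * (k * τ⁻¹ * k⁻¹) := by rw [commutatorElement_def]; group
      have hτT : τ * (k * τ⁻¹ * k⁻¹) ∈ T P W :=
        (T P W).mul_mem hτ (h.conj_T (Or.inr hk) ((T P W).inv_mem hτ))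
      rw [e]
      refine ⟨hτT, ?_⟩
      rcases hact k hk with h1 | h1
      · rw [h1 _ (P.inv_mem (T_le hτ))]
        group
      · rw [h1 _ (P.inv_mem (T_le hτ))]
        have h2 : t * (τ * (t * τ⁻¹ * t⁻¹)) * t⁻¹ = (t * τ * t⁻¹) * (t * (t * τ⁻¹ * t⁻¹) * t⁻¹) := by group
        rw [h2, hsq _ (P.inv_mem (T_le hτ))]
        group
    exact fun u hu => (hle hu).2
  have hy : ∃ u ∈ P, u * (t * u⁻¹ * t⁻¹) ∉ T P W := by
    by_contra hcon
    push Not at hcon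
    obtain ⟨y, hyP, hyT⟩ := h.exists_y
    apply hyT
    have hle : P ≤ T P W := by
      conv_lhs => rw [← h.hPK]
      rw [commutator_le]
      intro u hu k hk
      have e : ⁅u, k⁆ = u * (k * u⁻¹ * k⁻¹) := by rw [commutatorElement_def]; group
      rw [e]
      rcases hact k hk with h1 | h1
      · rw [h1 _ (P.inv_mem hu), mul_inv_cancel]
        exact (T P W).one_mem
      · rw [h1 _ (P.inv_mem hu)]
        exact hcon u hu
    exact hle hyP
  obtain ⟨u, hu, huT⟩ := hy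
  refine ⟨t, u * (t * u⁻¹ * t⁻¹), h, ht, hsq, hact, hU, P.mul_mem hu (h.conj_P (Or.inr ht) (P.inv_mem hu)), huT, ?_⟩
  have h2 : t * (u * (t * u⁻¹ * t⁻¹)) * t⁻¹ = (t * u * t⁻¹) * (t * (t * u⁻¹ * t⁻¹) * t⁻¹) := by group
  rw [h2, hsq _ (P.inv_mem hu)]
  group

namespace C3

variable {t y : G}

theorem fix_of_comm (z : C3 P K W x t y) {τ : G} (hτ : τ ∈ T P W) (hc : y * τ = τ * y) : t * τ * t⁻¹ = τ := by
  have h := z.h
  set H : Subgroup G := T P W ⊓ centralizer {y} with hH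
  have hA : zpowers t ≤ K := zpowers_le.2 z.htK
  have hcop : (Nat.card (zpowers t)).Coprime 3 := h.hcop.coprime_dvd_left (card_dvd_of_le hA)
  have hmem : ∀ a, a ∈ H ↔ a ∈ T P W ∧ y * a = a * y := by
    intro a
    rw [hH, mem_inf, mem_centralizer_singleton_iff]
    exact ⟨fun h => ⟨h.1, h.2.symm⟩, fun h => ⟨h.1, h.2.symm⟩⟩
  have h1 : ∀ a ∈ H, t * a * t⁻¹ ∈ H := by
    intro a ha
    rw [hmem] at ha ⊢
    refine ⟨h.conj_T (Or.inr z.htK) ha.1, ?_⟩
    have h2 : y⁻¹ * (t * a * t⁻¹) = (t * a * t⁻¹) * y⁻¹ := by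
      rw [← z.hty]
      have e1 : t * y * t⁻¹ * (t * a * t⁻¹) = t * (y * a) * t⁻¹ := by group
      rw [e1, ha.2]; group
    have h3 : Commute y⁻¹ (t * a * t⁻¹) := h2
    exact (Commute.inv_left_iff.1 h3).eq
  have h1' : ∀ a ∈ H, t⁻¹ * a * t ∈ H := by
    intro a ha
    have h2 := h1 a ha
    have hsq := z.hsq a (T_le ((hmem a).1 ha).1)
    have : t⁻¹ * a * t = t * a * t⁻¹ := by
      conv_lhs => rw [← hsq]
      group
    rw [this]; exact h2
  have hn : zpowers t ≤ normalizer (H : Set G) := by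
    rw [zpowers_le, mem_normalizer_iff]
    intro a
    refine ⟨h1 a, fun h2 => ?_⟩
    have h3 := h1' _ h2
    have e : t⁻¹ * (t * a * t⁻¹) * t = a := by group
    rwa [e] at h3
  have h4 : zpowers t ≤ centralizer (H : Set G) := by
    refine BG.le_centralizer_of_omega1 h.hp2 (zpowers t) hcop _ H rfl (h.isPT.to_le inf_le_left) hn ?_
    intro v hv hv3 a ha
    have hvW : v ∈ W := h.ord_T ((hmem v).1 hv).1 hv3
    have hvx : v ∈ zpowers x := by
      by_contra h0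
      exact z.hyT (h.mem_of_comm z.hyP hvW h0 ((hmem v).1 hv).2)
    obtain ⟨i, rfl⟩ := mem_zpowers_iff.1 hvx
    exact (Commute.zpow_right (show Commute a x from h.hKx a (hA ha)) i).eq
  have h5 := mem_centralizer_iff.1 (h4 (mem_zpowers t)) τ ((hmem τ).2 ⟨hτ, hc⟩)
  rw [← h5]; group

theorem y_pow (z : C3 P K W x t y) : y ^ 3 = 1 := by
  have h := z.h
  have h1 : y ^ 3 ∈ T P W := h.pow_p_mem z.hyP
  have h2 := z.fix_of_comm h1 ((Commute.refl y).pow_right 3).eq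
  rw [← conj_pow, z.hty, inv_pow] at h2
  have h3 : (y ^ 3) ^ 2 = 1 := by
    rw [sq]
    nth_rewrite 1 [← h2]
    exact inv_mul_cancel _
  exact eq_one_of_pow_coprime h.hP (T_le h1) (by decide) h3

/-- the subgroup `U δ(T)` -/
theorem gen (z : C3 P K W x t y) {τ : G} (hτ : τ ∈ T P W) :
    ∃ u ∈ ⁅T P W, K⁆, ∃ d ∈ T P W, τ = u * (y * d * y⁻¹ * d⁻¹) := by
  have h := z.h
  have hTc := h.commute_T
  have hyT : ∀ d ∈ T P W, y * d * y⁻¹ ∈ T P W := fun d hd => h.conj_T (Or.inl z.hyP) hd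
  -- `M = U δ(T)`
  let M : Subgroup G :=
    { carrier := {a | ∃ u ∈ ⁅T P W, K⁆, ∃ d ∈ T P W, a = u * (y * d * y⁻¹ * d⁻¹)}
      mul_mem' := by
        rintro _ _ ⟨u, hu, d, hd, rfl⟩ ⟨u', hu', d', hd', rfl⟩
        refine ⟨u * u', Subgroup.mul_mem _ hu hu', d * d', Subgroup.mul_mem _ hd hd', ?_⟩
        have c1 : Commute (y * d * y⁻¹ * d⁻¹) u' :=
          hTc _ (Subgroup.mul_mem _ (hyT d hd) (Subgroup.inv_mem _ hd)) _ (h.U_le hu')
        have c2 : Commute (y * d' * y⁻¹) d⁻¹ := hTc _ (hyT d' hd') _ (Subgroup.inv_mem _ hd)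
        have c3 : Commute d⁻¹ d'⁻¹ := hTc _ (Subgroup.inv_mem _ hd) _ (Subgroup.inv_mem _ hd')
        calc u * (y * d * y⁻¹ * d⁻¹) * (u' * (y * d' * y⁻¹ * d'⁻¹))
            = u * ((y * d * y⁻¹ * d⁻¹) * u') * (y * d' * y⁻¹ * d'⁻¹) := by group
          _ = u * (u' * (y * d * y⁻¹ * d⁻¹)) * (y * d' * y⁻¹ * d'⁻¹) := by rw [c1.eq]
          _ = u * u' * (y * d * y⁻¹) * (d⁻¹ * (y * d' * y⁻¹)) * d'⁻¹ := by group
          _ = u * u' * (y * d * y⁻¹) * ((y * d' * y⁻¹) * d⁻¹) * d'⁻¹ := by rw [c2.eq]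
          _ = u * u' * (y * d * y⁻¹) * (y * d' * y⁻¹) * (d⁻¹ * d'⁻¹) := by group
          _ = u * u' * (y * d * y⁻¹) * (y * d' * y⁻¹) * (d'⁻¹ * d⁻¹) := by rw [c3.eq]
          _ = u * u' * (y * (d * d') * y⁻¹ * (d * d')⁻¹) := by group
      one_mem' := ⟨1, Subgroup.one_mem _, 1, Subgroup.one_mem _, by group⟩
      inv_mem' := by
        rintro _ ⟨u, hu, d, hd, rfl⟩
        refine ⟨u⁻¹, Subgroup.inv_mem _ hu, d⁻¹, Subgroup.inv_mem _ hd, ?_⟩
        have c1 : Commute u⁻¹ (y * d * y⁻¹ * d⁻¹)⁻¹ :=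
          hTc _ (Subgroup.inv_mem _ (h.U_le hu)) _ (Subgroup.inv_mem _ (Subgroup.mul_mem _ (hyT d hd) (Subgroup.inv_mem _ hd)))
        have c2 : Commute d (y * d⁻¹ * y⁻¹) := hTc _ hd _ (hyT _ (Subgroup.inv_mem _ hd))
        calc (u * (y * d * y⁻¹ * d⁻¹))⁻¹ = (y * d * y⁻¹ * d⁻¹)⁻¹ * u⁻¹ := by rw [mul_inv_rev]
          _ = u⁻¹ * (y * d * y⁻¹ * d⁻¹)⁻¹ := by rw [c1.eq]
          _ = u⁻¹ * (d * (y * d⁻¹ * y⁻¹)) := by group
          _ = u⁻¹ * ((y * d⁻¹ * y⁻¹) * d) := by rw [c2.eq]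
          _ = _ := by group }
  have hUM : ∀ u ∈ ⁅T P W, K⁆, u ∈ M := fun u hu => ⟨u, hu, 1, Subgroup.one_mem _, by group⟩
  have hDM : ∀ d ∈ T P W, y * d * y⁻¹ * d⁻¹ ∈ M := fun d hd => ⟨1, Subgroup.one_mem _, d, hd, by group⟩
  have hMT : M ≤ T P W := by
    rintro _ ⟨u, hu, d, hd, rfl⟩
    exact Subgroup.mul_mem _ (h.U_le hu) (Subgroup.mul_mem _ (hyT d hd) (Subgroup.inv_mem _ hd))
  have hyM : ∀ m ∈ M, y * m * y⁻¹ ∈ M := by
    intro m hm
    have : y * m * y⁻¹ = (y * m * y⁻¹ * m⁻¹) * m := by group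
    rw [this]
    exact M.mul_mem (hDM m (hMT hm)) hm
  have hyM' : y ∈ normalizer (M : Set G) := by
    rw [mem_normalizer_iff]
    intro a
    refine ⟨hyM a, fun h2 => ?_⟩
    have h3 := hyM _ (hyM _ h2)
    have e : y * (y * (y * a * y⁻¹) * y⁻¹) * y⁻¹ = y ^ 3 * a * (y ^ 3)⁻¹ := by
      rw [show y ^ 3 = y * y * y from by rw [pow_succ, sq]]; group
    rw [e, z.y_pow] at h3
    simpa using h3
  have hNM : zpowers y ≤ normalizer (M : Set G) := zpowers_le.2 hyM'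
  have hmem : ∀ a, a ∈ M ⊔ zpowers y ↔ ∃ m ∈ M, ∃ v ∈ zpowers y, m * v = a := fun a => mem_sup_iff_of_normalizes hNM
  -- `t` normalizes `M` and `M ⟨y⟩`
  have htM : ∀ m ∈ M, t * m * t⁻¹ ∈ M := by
    rintro _ ⟨u, hu, d, hd, rfl⟩
    have h1 : t * (u * (y * d * y⁻¹ * d⁻¹)) * t⁻¹ = (t * u * t⁻¹) *
        ((t * y * t⁻¹) * (t * d * t⁻¹) * (t * y * t⁻¹)⁻¹ * (t * d * t⁻¹)⁻¹) := by group
    rw [h1, z.hty]
    refine M.mul_mem (hUM _ (h.conj_U z.htK hu)) ?_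
    set d' := t * d * t⁻¹ with hd'
    have hd'T : d' ∈ T P W := h.conj_T (Or.inr z.htK) hd
    have h2 : y⁻¹ * d' * y⁻¹⁻¹ * d'⁻¹ = (y * (y⁻¹ * d' * y) * y⁻¹ * (y⁻¹ * d' * y)⁻¹)⁻¹ := by
      have hd2 : y⁻¹ * d' * y ∈ T P W := by
        have := h.conj_T (Or.inl (P.inv_mem z.hyP)) hd'T
        rwa [inv_inv] at this
      have c2 : Commute (y⁻¹ * d' * y) d'⁻¹ := hTc _ hd2 _ (Subgroup.inv_mem _ hd'T)
      calc y⁻¹ * d' * y⁻¹⁻¹ * d'⁻¹ = (y⁻¹ * d' * y) * d'⁻¹ := by rw [inv_inv]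
        _ = _ := by group
    rw [h2]
    apply M.inv_mem
    apply hDM
    have := h.conj_T (Or.inl (P.inv_mem z.hyP)) hd'T
    rwa [inv_inv] at this
  have hPle : P ≤ M ⊔ zpowers y := by
    apply h.le_of_forall
    · intro k hk n hn
      have hnP : n ∈ P := by
        obtain ⟨m, hm, v, hv, rfl⟩ := (hmem n).1 hn
        exact P.mul_mem (T_le (hMT hm)) ((zpowers_le.2 z.hyP) hv)
      rcases z.hact k hk with h1 | h1
      · rw [h1 n hnP]; exact hn
      · rw [h1 n hnP]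
        obtain ⟨m, hm, v, hv, rfl⟩ := (hmem n).1 hn
        obtain ⟨i, rfl⟩ := mem_zpowers_iff.1 hv
        have h2 : t * (m * y ^ i) * t⁻¹ = (t * m * t⁻¹) * (t * y * t⁻¹) ^ i := by
          rw [conj_zpow]; group
        rw [h2, z.hty]
        exact Subgroup.mul_mem _ ((le_sup_left : M ≤ _) (htM m hm))
          ((le_sup_right : zpowers y ≤ _) (Subgroup.zpow_mem _ (Subgroup.inv_mem _ (mem_zpowers y)) i))
    · intro g hg
      obtain ⟨i, hi⟩ := h.exists_pow z.hyP z.hyT hg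
      obtain ⟨u, hu, v, hv, huv⟩ := h.decomp hi
      have hvT := (mem_T0.1 hv).1
      refine ⟨u * (v * y ^ i * v⁻¹ * (y ^ i)⁻¹) * y ^ i, ?_, v, hv, ?_⟩
      · refine Subgroup.mul_mem _ ((le_sup_left : M ≤ _) (M.mul_mem (hUM u hu) ?_))
          ((le_sup_right : zpowers y ≤ _) (Subgroup.zpow_mem _ (mem_zpowers y) i))
        -- `[v, y ^ i] ∈ M`
        have key : ∀ n : ℕ, v * y ^ n * v⁻¹ * (y ^ n)⁻¹ ∈ M := by
          intro n
          induction n with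
          | zero =>
            have : v * y ^ 0 * v⁻¹ * (y ^ 0)⁻¹ = 1 := by simp
            rw [this]; exact M.one_mem
          | succ n ih =>
            have e1 : v * y ^ (n + 1) * v⁻¹ * (y ^ (n + 1))⁻¹ =
                (y * v * y⁻¹ * v⁻¹)⁻¹ * (y * (v * y ^ n * v⁻¹ * (y ^ n)⁻¹) * y⁻¹) := by
              rw [pow_succ']; group
            rw [e1]
            exact M.mul_mem (M.inv_mem (hDM v hvT)) (hyM _ ih)
        have h5 : y ^ i = y ^ (i % 3).toNat := by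
          have h6 : y ^ i = y ^ (i % 3) := by
            conv_lhs => rw [← Int.emod_add_mul_ediv i 3, zpow_add, zpow_mul, zpow_ofNat, z.y_pow, one_zpow, mul_one]
          rw [h6]
          conv_rhs => rw [← zpow_natCast, Int.toNat_of_nonneg (Int.emod_nonneg i (by norm_num))]
        rw [h5]
        exact key _
      · calc g = (g * (y ^ i)⁻¹) * y ^ i := by group
          _ = (u * v) * y ^ i := by rw [huv]
          _ = _ := by group
  obtain ⟨m, hm, v, hv, hmv⟩ := (hmem τ).1 (hPle (T_le hτ))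
  have hvT : v ∈ T P W := by
    have : v = m⁻¹ * τ := by rw [← hmv]; group
    rw [this]
    exact Subgroup.mul_mem _ (Subgroup.inv_mem _ (hMT hm)) hτ
  obtain ⟨i, rfl⟩ := mem_zpowers_iff.1 hv
  have h6 : y ^ i = y ^ (i % 3) := by
    conv_lhs => rw [← Int.emod_add_mul_ediv i 3, zpow_add, zpow_mul, zpow_ofNat, z.y_pow, one_zpow, mul_one]
  have h5 : i % 3 = 0 ∨ i % 3 = 1 ∨ i % 3 = 2 := by omega
  have h7 : y ^ i = 1 := by
    rcases h5 with h5 | h5 | h5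
    · rw [h6, h5, zpow_zero]
    · exfalso
      rw [h6, h5, zpow_one] at hvT
      exact z.hyT hvT
    · exfalso
      rw [h6, h5] at hvT
      apply z.hyT
      have : y = (y ^ (2 : ℤ))⁻¹ := by
        apply eq_inv_of_mul_eq_one_left
        have : y * y ^ (2 : ℤ) = y ^ 3 := by
          rw [zpow_ofNat, pow_succ' y 2]
        rw [this, z.y_pow]
      rw [this]
      exact Subgroup.inv_mem _ hvT
  rw [h7, mul_one] at hmv
  rw [← hmv]
  exact hm

end C3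

end three

end Ctx

end Cfsg.Agent.H88
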