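import Cfsg.Agent.H88.RankTwo6
import Cfsg.Agent.H33.CycStruct

set_option autoImplicit false
set_option maxHeartbeats 400000

/-!
# Rank two `3`-groups with a unique normal subgroup of type `(3, 3)`, III (helper88)
-/

namespace Cfsg.Agent.H88

open Subgroup Cfsg.Agent.H85
open scoped commutatorElement

universe u

namespace Ctx

namespace C3

variable {G : Type u} [Group G] [Finite G] [hp : Fact (Nat.Prime 3)] {P K W : Subgroup G} {x t y : G}

/-- conjugation on `T` -/
def cj (S : Subgroup G) (g : G) (hg : ∀ a ∈ S, g * a * g⁻¹ ∈ S) : ↥S →* ↥S where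
  toFun a := ⟨g * a * g⁻¹, hg a a.2⟩
  map_one' := Subtype.ext (by simp)
  map_mul' a b := Subtype.ext (by
    show g * ((a : G) * b) * g⁻¹ = (g * a * g⁻¹) * (g * b * g⁻¹)
    group)

theorem main (z : C3 P K W x t y) : (∀ τ ∈ T P W, τ * (y * τ * y⁻¹) * (y * (y * τ * y⁻¹) * y⁻¹) = 1) ∧
    Nat.card (T P W) = Nat.card (T0 P K W) ^ 2 := by
  have h := z.h
  have hyT : ∀ d ∈ T P W, y * d * y⁻¹ ∈ T P W := fun d hd => h.conj_T (Or.inl z.hyP) hd
  have htT : ∀ d ∈ T P W, t * d * t⁻¹ ∈ T P W := fun d hd => h.conj_T (Or.inr z.htK) hd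
  letI : CommGroup ↥(T P W) :=
    { (inferInstance : Group ↥(T P W)) with
      mul_comm := fun a b => Subtype.ext (h.commute_T a a.2 b b.2).eq }
  set c : Additive ↥(T P W) →+ Additive ↥(T P W) := MonoidHom.toAdditive (cj (T P W) y hyT) with hc
  set s : Additive ↥(T P W) →+ Additive ↥(T P W) := MonoidHom.toAdditive (cj (T P W) t htT) with hs
  have cval : ∀ a : Additive ↥(T P W), ((Additive.toMul (c a) : ↥(T P W)) : G) = y * (Additive.toMul a : ↥(T P W)) * y⁻¹ :=
    fun a => rfl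
  have sval : ∀ a : Additive ↥(T P W), ((Additive.toMul (s a) : ↥(T P W)) : G) = t * (Additive.toMul a : ↥(T P W)) * t⁻¹ :=
    fun a => rfl
  have ext' : ∀ a b : Additive ↥(T P W), ((Additive.toMul a : ↥(T P W)) : G) = (Additive.toMul b : ↥(T P W)) → a = b :=
    fun a b hab => Additive.toMul.injective (Subtype.ext hab)
  have memT : ∀ a : Additive ↥(T P W), ((Additive.toMul a : ↥(T P W)) : G) ∈ T P W := fun a => (Additive.toMul a).2
  have h1 : ∀ a, s (s a) = a := fun a => ext' _ _ (by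
    rw [sval, sval]; exact z.hsq _ (T_le (memT a)))
  have h2 : ∀ a, c (c (c a)) = a := fun a => ext' _ _ (by
    rw [cval, cval, cval]
    have e : ∀ a : G, y * (y * (y * a * y⁻¹) * y⁻¹) * y⁻¹ = y ^ 3 * a * (y ^ 3)⁻¹ := fun a => by
      rw [show y ^ 3 = y * y * y from by rw [pow_succ, sq]]; group
    rw [e, z.y_pow]; simp)
  have hy2 : y * y = y⁻¹ := by
    apply eq_inv_of_mul_eq_one_left
    rw [← z.y_pow, pow_succ, sq]
  have h3 : ∀ a, s (c a) = c (c (s a)) := fun a => ext' _ _ (by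
    rw [sval, cval, cval, cval, sval]
    set b : G := ((Additive.toMul a : ↥(T P W)) : G)
    have e1 : t * (y * b * y⁻¹) * t⁻¹ = (t * y * t⁻¹) * (t * b * t⁻¹) * (t * y * t⁻¹)⁻¹ := by group
    have e2 : y * (y * (t * b * t⁻¹) * y⁻¹) * y⁻¹ = (y * y) * (t * b * t⁻¹) * (y * y)⁻¹ := by group
    rw [e1, e2, z.hty, hy2])
  have h4 : ∀ a : Additive ↥(T P W), a + a = 0 → a = 0 := by
    intro a ha
    apply ext'
    have h5 : ((Additive.toMul a : ↥(T P W)) : G) * ((Additive.toMul a : ↥(T P W)) : G) = 1 := by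
      have := congrArg (fun b : Additive ↥(T P W) => ((Additive.toMul b : ↥(T P W)) : G)) ha
      exact this
    show _ = (1 : G)
    rw [← sq] at h5
    exact eq_one_of_pow_coprime h.isPT (memT a) (by decide) h5
  have h5 : ∀ a, c a = a → s a = a := by
    intro a ha
    apply ext'
    rw [sval]
    apply z.fix_of_comm (memT a)
    have h6 := congrArg (fun b : Additive ↥(T P W) => ((Additive.toMul b : ↥(T P W)) : G)) ha
    have h7 : y * (Additive.toMul a : ↥(T P W)) * y⁻¹ = (Additive.toMul a : ↥(T P W)) := h6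
    conv_rhs => rw [← h7]
    group
  have h6 : ∀ a, ∃ u d, s u = -u ∧ a = u + (c d - d) := by
    intro a
    obtain ⟨u, hu, d, hd, hud⟩ := z.gen (memT a)
    refine ⟨Additive.ofMul ⟨u, h.U_le hu⟩, Additive.ofMul ⟨d, hd⟩, ?_, ?_⟩
    · apply ext'
      exact z.hU u hu
    · apply ext'
      rw [hud, sub_eq_add_neg]
      rfl
  have h7 : ∀ a, ∃ u v, s u = -u ∧ s v = v ∧ a = u + v := by
    intro a
    obtain ⟨u, hu, v, hv, huv⟩ := h.decomp (memT a)
    refine ⟨Additive.ofMul ⟨u, h.U_le hu⟩, Additive.ofMul ⟨v, (mem_T0.1 hv).1⟩, ?_, ?_, ?_⟩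
    · apply ext'
      exact z.hU u hu
    · apply ext'
      show t * v * t⁻¹ = v
      rw [(mem_T0.1 hv).2 t z.htK]; group
    · apply ext'
      exact huv
  constructor
  · intro τ hτ
    have h8 := AbsThree.norm_zero c s h1 h2 h3 h4 h5 h6 (Additive.ofMul ⟨τ, hτ⟩)
    exact congrArg (fun b : Additive ↥(T P W) => ((Additive.toMul b : ↥(T P W)) : G)) h8
  · have h8 := AbsThree.card_sq c s h1 h2 h3 h4 h5 h6 h7
    have h9 : Nat.card (AbsThree.Fm s) = Nat.card (T0 P K W) := by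
      refine Nat.card_eq_of_bijective (fun v : AbsThree.Fm s =>
        (⟨((Additive.toMul (v : Additive ↥(T P W)) : ↥(T P W)) : G), mem_T0.2 ⟨memT _, ?_⟩⟩ : T0 P K W)) ⟨?_, ?_⟩
      · intro k hk
        have h10 : t * ((Additive.toMul (v : Additive ↥(T P W)) : ↥(T P W)) : G) * t⁻¹ =
            ((Additive.toMul (v : Additive ↥(T P W)) : ↥(T P W)) : G) :=
          congrArg (fun b : Additive ↥(T P W) => ((Additive.toMul b : ↥(T P W)) : G)) (AbsThree.mem_Fm.1 v.2)
        rcases z.hact k hk with h11 | h11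
        · have h12 := h11 _ (T_le (memT v))
          conv_rhs => rw [← h12]
          group
        · have h12 := h11 _ (T_le (memT v))
          rw [h10] at h12
          conv_rhs => rw [← h12]
          group
      · intro a b hab
        have h10 : ((Additive.toMul (a : Additive ↥(T P W)) : ↥(T P W)) : G) =
            ((Additive.toMul (b : Additive ↥(T P W)) : ↥(T P W)) : G) :=
          congrArg (fun z : ↥(T0 P K W) => (z : G)) hab
        exact Subtype.ext (ext' _ _ h10)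
      · rintro ⟨v, hv⟩
        refine ⟨⟨Additive.ofMul ⟨v, (mem_T0.1 hv).1⟩, ?_⟩, rfl⟩
        rw [AbsThree.mem_Fm]
        apply ext'
        show t * v * t⁻¹ = v
        rw [(mem_T0.1 hv).2 t z.htK]; group
    rw [← h9, ← h8]
    rfl

/-- `C_T(y) = ⟨x⟩` -/
theorem cent_y (z : C3 P K W x t y) {τ : G} (hτ : τ ∈ T P W) (hc : y * τ = τ * y) : τ ∈ zpowers x := by
  have h := z.h
  have h1 := z.main.1 τ hτ
  have h2 : y * τ * y⁻¹ = τ := by rw [hc]; group
  rw [h2, h2] at h1
  have h3 : τ ^ 3 = 1 := by rw [pow_succ, sq]; exact h1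
  by_contra h0
  exact z.hyT (h.mem_of_comm z.hyP (h.ord_T hτ h3) h0 hc)

theorem zpow_y (z : C3 P K W x t y) (i : ℤ) : y ^ i = 1 ∨ y ^ i = y ∨ y ^ i = y⁻¹ := by
  have h6 : y ^ i = y ^ (i % 3) := by
    conv_lhs => rw [← Int.emod_add_mul_ediv i 3, zpow_add, zpow_mul, zpow_ofNat, z.y_pow, one_zpow, mul_one]
  have h5 : i % 3 = 0 ∨ i % 3 = 1 ∨ i % 3 = 2 := by omega
  rcases h5 with h5 | h5 | h5
  · left; rw [h6, h5, zpow_zero]
  · right; left; rw [h6, h5, zpow_one]
  · right; right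
    rw [h6, h5]
    apply eq_inv_of_mul_eq_one_left
    have : y ^ (2 : ℤ) * y = y ^ 3 := by rw [zpow_ofNat, pow_succ y 2]
    rw [this, z.y_pow]

/-- the conclusion -/
theorem concl (z : C3 P K W x t y) : ∃ a : ℕ, 1 ≤ a ∧ Nat.card P = 3 ^ (2 * a + 1) ∧
    (a = 1 → ∀ g ∈ P, g ^ 3 = 1) ∧ Group.nilpotencyClass ↥P = 2 * a := by
  have h := z.h
  have hpT0 : IsPGroup 3 (T0 P K W) := h.isPT.to_le inf_le_left
  obtain ⟨a, ha⟩ := IsPGroup.iff_card.1 hpT0
  have ha1 : 1 ≤ a := by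
    rcases Nat.eq_zero_or_pos a with h0 | h0
    · exfalso
      rw [h0, pow_zero] at ha
      have h1 : T0 P K W = ⊥ := card_eq_one.1 ha
      apply h.x_ne
      have := h.x_mem_T0
      rw [h1] at this
      exact mem_bot.1 this
    · exact h0
  have hcT : Nat.card (T P W) = 3 ^ (2 * a) := by
    rw [z.main.2, ha, ← pow_mul, mul_comm]
  have hcP : Nat.card P = 3 ^ (2 * a + 1) := by
    rw [h.index_T, hcT, pow_succ]
  refine ⟨a, ha1, hcP, ?_, ?_⟩
  · intro ha2
    have hTW : T P W = W := by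
      symm
      apply Subgroup.eq_of_le_of_card_ge h.W_le
      rw [hcT, h.hWc, ha2]
    have hcube : ∀ τ ∈ T P W, (τ * y) ^ 3 = 1 := by
      intro τ hτ
      have h1 := z.main.1 τ hτ
      have e : (τ * y) ^ 3 = (τ * (y * τ * y⁻¹) * (y * (y * τ * y⁻¹) * y⁻¹)) * y ^ 3 := by
        rw [pow_succ, sq, show y ^ 3 = y * y * y from by rw [pow_succ, sq]]; group
      rw [e, h1, z.y_pow, one_mul]
    intro g hg
    obtain ⟨i, hi⟩ := h.exists_pow z.hyP z.hyT hg
    rcases z.zpow_y i with h1 | h1 | h1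
    · rw [h1, inv_one, mul_one, hTW] at hi
      exact h.hW.2 g hi
    · rw [h1] at hi
      have := hcube _ hi
      have e : g * y⁻¹ * y = g := by group
      rwa [e] at this
    · rw [h1, inv_inv] at hi
      have h2 : g⁻¹ * y⁻¹ ∈ T P W := by
        have h3 := h.conj_T (Or.inl (P.inv_mem hg)) ((T P W).inv_mem hi)
        have e : g⁻¹ * (g * y)⁻¹ * g⁻¹⁻¹ = g⁻¹ * y⁻¹ := by group
        rwa [e] at h3
      have h3 := hcube _ h2
      have e : g⁻¹ * y⁻¹ * y = g⁻¹ := by group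
      rw [e, inv_pow, inv_eq_one] at h3
      exact h3
  · -- the self-centralizing subgroup
    set A : Subgroup G := P ⊓ centralizer {y} with hA
    have hmem : ∀ g, g ∈ A ↔ g ∈ P ∧ y * g = g * y := by
      intro g
      rw [hA, mem_inf, mem_centralizer_singleton_iff]
      exact ⟨fun h => ⟨h.1, h.2.symm⟩, fun h => ⟨h.1, h.2.symm⟩⟩
    have hform : ∀ g ∈ A, ∃ i j : ℤ, g = x ^ i * y ^ j := by
      intro g hg
      obtain ⟨hgP, hgy⟩ := (hmem g).1 hg
      obtain ⟨j, hj⟩ := h.exists_pow z.hyP z.hyT hgP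
      have h1 : g * (y ^ j)⁻¹ ∈ zpowers x := by
        apply z.cent_y hj
        have c1 : Commute y g := hgy
        have c2 : Commute y ((y ^ j)⁻¹) := ((Commute.refl y).zpow_right j).inv_right
        exact (c1.mul_right c2).eq
      obtain ⟨i, hi⟩ := mem_zpowers_iff.1 h1
      exact ⟨i, j, by rw [hi]; group⟩
    have hxy : Commute x y := (h.hxc y z.hyP).symm
    have hcomm : ∀ g ∈ A, ∀ g' ∈ A, Commute g g' := by
      intro g hg g' hg'
      obtain ⟨i, j, rfl⟩ := hform g hg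
      obtain ⟨i', j', rfl⟩ := hform g' hg'
      have c1 : Commute (x ^ i) (x ^ i' * y ^ j') :=
        ((Commute.refl x).zpow_zpow i i').mul_right (hxy.zpow_zpow i j')
      have c2 : Commute (y ^ j) (x ^ i' * y ^ j') :=
        (hxy.symm.zpow_zpow j i').mul_right ((Commute.refl y).zpow_zpow j j')
      exact c1.mul_left c2
    have hyA : y ∈ A := (hmem y).2 ⟨z.hyP, rfl⟩
    have hxA : x ∈ A := (hmem x).2 ⟨h.hxP, h.hxc y z.hyP⟩
    have hexp : ∀ g ∈ A, g ^ 3 = 1 := by
      intro g hg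
      obtain ⟨i, j, rfl⟩ := hform g hg
      rw [(hxy.zpow_zpow i j).mul_pow, ← zpow_natCast, ← zpow_natCast, ← zpow_mul, ← zpow_mul, mul_comm i, mul_comm j,
        zpow_mul, zpow_mul]
      have e1 : x ^ ((3 : ℕ) : ℤ) = 1 := by rw [zpow_natCast]; exact h.hxp
      have e2 : y ^ ((3 : ℕ) : ℤ) = 1 := by rw [zpow_natCast]; exact z.y_pow
      rw [e1, e2, one_zpow, one_zpow, one_mul]
    have hAe : Cfsg.IsElementaryAbelian 3 A :=
      ⟨⟨⟨fun a b => Subtype.ext (hcomm a a.2 b b.2).eq⟩⟩, hexp⟩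
    have hAle : Nat.card A ≤ 3 ^ 2 := h.hr A inf_le_left hAe
    obtain ⟨m, hm⟩ := IsPGroup.iff_card.1 (h.hP.to_le (inf_le_left : A ≤ P))
    have hxz : zpowers x ≤ A := zpowers_le.2 hxA
    have hm2 : m ≤ 2 := by
      rw [hm] at hAle
      exact (Nat.pow_le_pow_iff_right (by norm_num)).1 hAle
    have hm1 : ¬ m ≤ 1 := by
      intro h0
      have h1 : zpowers x = A := by
        apply Subgroup.eq_of_le_of_card_ge hxz
        rw [hm, Nat.card_zpowers, h.hx]
        exact (Nat.pow_le_pow_right (by norm_num) h0).trans (by norm_num)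
      have h2 : y ∈ zpowers x := by rw [h1]; exact hyA
      exact z.hyT (h.W_le ((zpowers_le.2 h.hxW) h2))
    have hm3 : m = 2 := by omega
    rw [hm3] at hm
    have hcA : centralizer ((A.subgroupOf P : Subgroup ↥P) : Set ↥P) = A.subgroupOf P := by
      apply le_antisymm
      · intro g hg
        rw [mem_subgroupOf, hmem]
        refine ⟨g.2, ?_⟩
        have := mem_centralizer_iff.1 hg ⟨y, z.hyP⟩ hyA
        exact congrArg Subtype.val this
      · intro g hg
        rw [mem_centralizer_iff]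
        intro g' hg'
        exact Subtype.ext (hcomm g' hg' g hg).eq
    have h1 := S0112.result (2 * a + 1) hcP (A.subgroupOf P) (by
      rw [Nat.card_congr (subgroupOfEquivOfLe (inf_le_left : A ≤ P)).toEquiv, hm]) hcA
    rw [h1]
    omega

end C3

end Ctx

/-- **Key proposition** (Diaz–Ruiz–Viruel type): a rank two `p`-group `P = [P, K]`, `K` a `p'`-group fixing a
central element of order `p` -/
theorem key_prop {G : Type u} [Group G] [Finite G] {p : ℕ} [hp : Fact p.Prime] (hp2 : p ≠ 2) {P K : Subgroup G} {x : G}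
    (hP : IsPGroup p P) (hK : K ≤ normalizer (P : Set G)) (hcop : (Nat.card K).Coprime p) (hPK : ⁅P, K⁆ = P)
    (hr : ∀ A : Subgroup G, A ≤ P → Cfsg.IsElementaryAbelian p A → Nat.card A ≤ p ^ 2)
    (hx : orderOf x = p) (hxP : x ∈ P) (hxc : ∀ u ∈ P, u * x = x * u) (hKx : ∀ k ∈ K, k * x = x * k) :
    (Nat.card P = p ^ 3 ∧ (∀ g ∈ P, g ^ p = 1) ∧ ¬ ∀ a ∈ P, ∀ b ∈ P, a * b = b * a) ∨
    (p = 3 ∧ ∃ k, 2 ≤ k ∧ Nat.card P = 3 ^ (2 * k + 1) ∧ Group.nilpotencyClass ↥P = 2 * k) := by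
  have hxp : x ^ p = 1 := by rw [← hx, pow_orderOf_eq_one]
  have hx1 : x ≠ 1 := by
    intro h0
    rw [h0, orderOf_one] at hx
    exact hp.out.one_lt.ne hx
  -- `P` is not cyclic
  have hncyc : ¬ IsCyclic ↥(⊤ : Subgroup ↥P) := by
    intro hc
    have hc' : IsCyclic ↥P := (Subgroup.topEquiv (G := ↥P)).isCyclic.1 hc
    have h1 : K ≤ centralizer (P : Set G) := by
      refine BG.le_centralizer_of_omega1 hp2 K hcop _ P rfl hP hK ?_
      intro u hu hup k hk
      have h2 : u ∈ zpowers x := by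
        have h3 : (⟨u, hu⟩ : ↥P) ∈ zpowers (⟨x, hxP⟩ : ↥P) := by
          have h4 : orderOf (⟨x, hxP⟩ : ↥P) = p := by rw [← Subgroup.orderOf_coe]; exact hx
          exact H33.mem_zpowers_of_cyclic hp.out.pos h4 (Subtype.ext hup)
        obtain ⟨i, hi⟩ := mem_zpowers_iff.1 h3
        exact ⟨i, congrArg Subtype.val hi⟩
      obtain ⟨i, rfl⟩ := mem_zpowers_iff.1 h2
      exact (Commute.zpow_right (show Commute k x from hKx k hk) i).eq
    have h2 : ⁅P, K⁆ = ⊥ := by
      rw [commutator_eq_bot_iff_le_centralizer]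
      intro g hg
      rw [mem_centralizer_iff]
      intro k hk
      exact (mem_centralizer_iff.1 (h1 hk) g hg).symm
    rw [hPK] at h2
    rw [h2, mem_bot] at hxP
    exact hx1 hxP
  obtain ⟨A, -, hAn, hAe, hAc⟩ := OddP.exists_sq_of_not_cyclic hp2 hP ⊤ inferInstance hncyc
  set W : Subgroup G := A.map P.subtype with hW
  have hWP : W ≤ P := by rintro _ ⟨a, _, rfl⟩; exact a.2
  have hWe : Cfsg.IsElementaryAbelian p W := by
    refine ⟨⟨⟨?_⟩⟩, ?_⟩
    · rintro ⟨_, a, ha, rfl⟩ ⟨_, b, hb, rfl⟩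
      apply Subtype.ext
      have := hAe.1.is_comm.comm ⟨a, ha⟩ ⟨b, hb⟩
      have h2 : a * b = b * a := congrArg Subtype.val this
      show (a : G) * (b : G) = (b : G) * (a : G)
      exact congrArg Subtype.val h2
    · rintro _ ⟨a, ha, rfl⟩
      have := hAe.2 a ha
      exact congrArg Subtype.val this
  have hWc : Nat.card W = p ^ 2 := by
    rw [hW, Nat.card_congr (A.equivMapOfInjective P.subtype P.subtype_injective).toEquiv.symm, hAc]
  have hPW : P ≤ normalizer (W : Set G) := by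
    intro g hg
    rw [mem_normalizer_iff]
    have h1 : ∀ g ∈ P, ∀ v ∈ W, g * v * g⁻¹ ∈ W := by
      rintro g hg _ ⟨a, ha, rfl⟩
      exact ⟨⟨g, hg⟩ * a * ⟨g, hg⟩⁻¹, hAn.conj_mem a ha ⟨g, hg⟩, rfl⟩
    intro v
    refine ⟨fun hv => h1 g hg v hv, fun hv => ?_⟩
    have h2 := h1 g⁻¹ (P.inv_mem hg) _ hv
    have h3 : g⁻¹ * (g * v * g⁻¹) * g⁻¹⁻¹ = v := by group
    rwa [h3] at h2
  by_cases hu : ∃ W₂ : Subgroup G, W₂ ≤ P ∧ P ≤ normalizer (W₂ : Set G) ∧ Cfsg.IsElementaryAbelian p W₂ ∧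
      Nat.card W₂ = p ^ 2 ∧ W ≠ W₂
  · obtain ⟨W₂, h1, h2, h3, h4, h5⟩ := hu
    obtain ⟨h6, h7, a, ha, b, hb, hab⟩ := two_normal hp2 hP hr hWP hPW hWe hWc h1 h2 h3 h4 h5 hx hxP hxc hK hcop hPK hKx
    exact Or.inl ⟨h6, h7, fun h8 => hab (h8 a ha b hb)⟩
  · push Not at hu
    have hKW : K ≤ normalizer (W : Set G) := by
      intro k hk
      have hmap : W.map (MulAut.conj k).toMonoidHom = W := by
        symm
        apply hu
        · rintro _ ⟨a, ha, rfl⟩
          exact (mem_normalizer_iff.1 (hK hk) a).1 (hWP ha)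
        · intro g hg
          have h1 : ∀ g ∈ P, ∀ v ∈ W.map (MulAut.conj k).toMonoidHom, g * v * g⁻¹ ∈ W.map (MulAut.conj k).toMonoidHom := by
            rintro g hg _ ⟨v, hv, rfl⟩
            have hg' : k⁻¹ * g * k ∈ P := by
              have := (mem_normalizer_iff.1 (hK (K.inv_mem hk)) g).1 hg
              rwa [inv_inv] at this
            refine ⟨(k⁻¹ * g * k) * v * (k⁻¹ * g * k)⁻¹, (mem_normalizer_iff.1 (hPW hg') v).1 hv, ?_⟩
            show k * ((k⁻¹ * g * k) * v * (k⁻¹ * g * k)⁻¹) * k⁻¹ = g * (k * v * k⁻¹) * g⁻¹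
            group
          rw [mem_normalizer_iff]
          intro v
          refine ⟨fun hv => h1 g hg v hv, fun hv => ?_⟩
          have h2 := h1 g⁻¹ (P.inv_mem hg) _ hv
          have h3 : g⁻¹ * (g * v * g⁻¹) * g⁻¹⁻¹ = v := by group
          rwa [h3] at h2
        · refine ⟨⟨⟨?_⟩⟩, ?_⟩
          · rintro ⟨_, a, ha, rfl⟩ ⟨_, b, hb, rfl⟩
            apply Subtype.ext
            have h2 : a * b = b * a := congrArg Subtype.val (hWe.1.is_comm.comm ⟨a, ha⟩ ⟨b, hb⟩)
            show (MulAut.conj k).toMonoidHom a * (MulAut.conj k).toMonoidHom b = (MulAut.conj k).toMonoidHom b * (MulAut.conj k).toMonoidHom a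
            rw [← map_mul, h2, map_mul]
          · rintro _ ⟨a, ha, rfl⟩
            rw [← map_pow, hWe.2 a ha, map_one]
        · rw [Nat.card_congr (W.equivMapOfInjective _ (MulAut.conj k).injective).toEquiv.symm, hWc]
      have h1 : ∀ v ∈ W, k * v * k⁻¹ ∈ W := fun v hv => by
        have h2 : k * v * k⁻¹ ∈ W.map (MulAut.conj k).toMonoidHom := ⟨v, hv, rfl⟩
        rwa [hmap] at h2
      rw [mem_normalizer_iff]
      intro v
      refine ⟨h1 v, fun hv => ?_⟩
      rw [← hmap] at hv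
      obtain ⟨v', hv', hvv⟩ := hv
      have h2 : k * v' * k⁻¹ = k * v * k⁻¹ := hvv
      have h3 : v' = v := by simpa using h2
      rw [← h3]; exact hv'
    have h : Ctx p P K W x := ⟨hp2, hP, hK, hcop, hPK, hr, hx, hxP, hxc, hKx, hWP, hPW, hKW, hWe, hWc⟩
    have h3 : p = 3 ∨ 3 < p := by
      have := hp.out.two_le
      omega
    rcases h3 with rfl | h3
    · obtain ⟨t, y, z⟩ := h.exists_C3
      obtain ⟨a, ha1, hca, hexp, hcl⟩ := z.concl
      rcases Nat.lt_or_ge 1 a with h4 | h4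
      · exact Or.inr ⟨rfl, a, h4, hca, hcl⟩
      · have h5 : a = 1 := le_antisymm h4 ha1
        refine Or.inl ⟨?_, hexp h5, h.nonab⟩
        rw [hca, h5]
    · obtain ⟨h4, h5⟩ := h.concl h3
      exact Or.inl ⟨h4, h5, h.nonab⟩

end Cfsg.Agent.H88
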